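import Mathlib

/-!
Fixed points of an automorphism of prime order inside the subgroups `[h, x]`:
basic definitions and lifting lemmas for coprime actions.
-/

set_option autoImplicit false
set_option linter.unusedSectionVars false

open Subgroup
open scoped Pointwise

namespace Cfsg.Agent.Lib.FixedGeneration

variable {H : Type*} [Group H] (x : MulAut H)

/-- The fixed points of `x`. -/
def Fix : Subgroup H := (x : H →* H).eqLocus (MonoidHom.id H)

/-- The subgroup `[h, ⟨x⟩]`. -/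
def D1 (h : H) : Subgroup H := closure {c : H | ∃ i : ℕ, c = h⁻¹ * (x ^ i) h}

/-- The subgroup `[S, ⟨x⟩]`. -/
def D (S : Subgroup H) : Subgroup H := ⨆ h : S, D1 x (h : H)

/-- The subgroup generated by the fixed points of the `[h, ⟨x⟩]`. -/
def K : Subgroup H := ⨆ h : H, D1 x h ⊓ Fix x

/-- Invariance under `x`. -/
def Inv (S : Subgroup H) : Prop := ∀ y ∈ S, x y ∈ S

/-- The property to be proved by induction. -/
def Conc : Prop := D x ⊤ ⊓ Fix x ≤ K x

variable {x}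

theorem mem_fix {y : H} : y ∈ Fix x ↔ x y = y := Iff.rfl

theorem pow_fix {y : H} (hy : y ∈ Fix x) : ∀ i : ℕ, (x ^ i) y = y
  | 0 => rfl
  | i + 1 => by rw [pow_succ, MulAut.mul_apply, mem_fix.1 hy, pow_fix hy i]

theorem gen_mem_D1 (h : H) (i : ℕ) : h⁻¹ * (x ^ i) h ∈ D1 x h := subset_closure ⟨i, rfl⟩

theorem gen1_mem_D1 (h : H) : h⁻¹ * x h ∈ D1 x h := by simpa using gen_mem_D1 (x := x) h 1

theorem D1_le {S : Subgroup H} {h : H} (hh : ∀ i : ℕ, h⁻¹ * (x ^ i) h ∈ S) : D1 x h ≤ S :=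
  closure_le _ |>.2 fun _ ⟨i, hi⟩ => hi ▸ hh i

theorem D1_le_D {S : Subgroup H} {h : H} (hh : h ∈ S) : D1 x h ≤ D x S :=
  le_iSup (fun h : S => D1 x (h : H)) ⟨h, hh⟩

theorem D1_inf_le_K (h : H) : D1 x h ⊓ Fix x ≤ K x := le_iSup (fun h : H => D1 x h ⊓ Fix x) h

theorem K_le_fix : K x ≤ Fix x := iSup_le fun _ => inf_le_right

theorem inv_pow {S : Subgroup H} (hS : Inv x S) : ∀ (i : ℕ) {y : H}, y ∈ S → (x ^ i) y ∈ S
  | 0, _, hy => hy
  | i + 1, y, hy => by rw [pow_succ, MulAut.mul_apply]; exact inv_pow hS i (hS y hy)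

theorem inv_bot : Inv x (⊥ : Subgroup H) := fun y hy => by simp_all

theorem inv_top : Inv x (⊤ : Subgroup H) := fun _ _ => mem_top _

theorem inv_fix : Inv x (Fix x) := fun y hy => by
  show x (x y) = x y
  rw [mem_fix.1 hy, mem_fix.1 hy]

theorem inv_inf {S T : Subgroup H} (hS : Inv x S) (hT : Inv x T) : Inv x (S ⊓ T) :=
  fun y hy => ⟨hS y hy.1, hT y hy.2⟩

theorem inv_iff {S : Subgroup H} : Inv x S ↔ S.map (x : H →* H) ≤ S :=
  ⟨fun h _ ⟨y, hy, e⟩ => e ▸ h y hy, fun h y hy => h ⟨y, hy, rfl⟩⟩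

theorem inv_iSup {ι : Sort*} {S : ι → Subgroup H} (h : ∀ i, Inv x (S i)) : Inv x (⨆ i, S i) := by
  rw [inv_iff, Subgroup.map_iSup]
  exact iSup_mono fun i => inv_iff.1 (h i)

theorem inv_sup {S T : Subgroup H} (hS : Inv x S) (hT : Inv x T) : Inv x (S ⊔ T) := by
  rw [inv_iff, Subgroup.map_sup]
  exact sup_le_sup (inv_iff.1 hS) (inv_iff.1 hT)

theorem inv_sSup {s : Set (Subgroup H)} (h : ∀ S ∈ s, Inv x S) : Inv x (sSup s) := by
  rw [sSup_eq_iSup']
  exact inv_iSup fun i => h i.1 i.2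

theorem inv_commutator {S T : Subgroup H} (hS : Inv x S) (hT : Inv x T) : Inv x ⁅S, T⁆ := by
  rw [inv_iff, map_commutator]
  exact commutator_mono (inv_iff.1 hS) (inv_iff.1 hT)

theorem inv_characteristic (S : Subgroup H) [hS : S.Characteristic] : Inv x S := by
  rw [inv_iff]
  exact (Subgroup.characteristic_iff_map_eq.1 hS x).le

theorem inv_zpowers_fix {c : H} (hc : c ∈ Fix x) : Inv x (zpowers c) := by
  intro y hy
  obtain ⟨n, rfl⟩ := mem_zpowers_iff.1 hy
  rw [map_zpow, mem_fix.1 hc]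
  exact hy

theorem inv_D1 (h : H) : Inv x (D1 x h) := by
  rw [inv_iff, D1, MonoidHom.map_closure, closure_le]
  rintro _ ⟨_, ⟨i, rfl⟩, rfl⟩
  have e : x (h⁻¹ * (x ^ i) h) = (h⁻¹ * (x ^ 1) h)⁻¹ * (h⁻¹ * (x ^ (i + 1)) h) := by
    rw [pow_succ' x i, MulAut.mul_apply, pow_one, map_mul, map_inv]
    group
  show x (h⁻¹ * (x ^ i) h) ∈ D1 x h
  rw [e]
  exact mul_mem (inv_mem (gen_mem_D1 h 1)) (gen_mem_D1 h (i + 1))

theorem inv_D (S : Subgroup H) : Inv x (D x S) := inv_iSup fun _ => inv_D1 _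

theorem D_le {S : Subgroup H} (hS : Inv x S) : D x S ≤ S :=
  iSup_le fun h => D1_le fun i => mul_mem (inv_mem h.2) (inv_pow hS i h.2)

/-- Conjugation by fixed points permutes the generators. -/
theorem conj_fix_K {c : H} (hc : c ∈ Fix x) {k : H} (hk : k ∈ K x) : c * k * c⁻¹ ∈ K x := by
  have hle : (K x).map (MulAut.conj c : H →* H) ≤ K x := by
    rw [K, Subgroup.map_iSup]
    refine iSup_le fun h => le_trans ?_ (D1_inf_le_K (h * c⁻¹))
    rintro _ ⟨y, ⟨hy1, hy2⟩, rfl⟩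
    refine ⟨?_, (Fix x).mul_mem ((Fix x).mul_mem hc hy2) ((Fix x).inv_mem hc)⟩
    have hm : (D1 x h).map (MulAut.conj c : H →* H) ≤ D1 x (h * c⁻¹) := by
      rw [D1, MonoidHom.map_closure, closure_le]
      rintro _ ⟨_, ⟨i, rfl⟩, rfl⟩
      have e : c * (h⁻¹ * (x ^ i) h) * c⁻¹ = (h * c⁻¹)⁻¹ * (x ^ i) (h * c⁻¹) := by
        rw [map_mul, map_inv, pow_fix hc i]
        group
      show c * (h⁻¹ * (x ^ i) h) * c⁻¹ ∈ D1 x (h * c⁻¹)
      rw [e]
      exact gen_mem_D1 _ i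
    exact hm ⟨y, hy1, rfl⟩
  exact hle ⟨k, hk, rfl⟩

/-- `[S, x]` is normalised by `S`. -/
theorem D_normalised {S : Subgroup H} {s d : H} (hs : s ∈ S) (hd : d ∈ D x S) :
    s * d * s⁻¹ ∈ D x S := by
  have hle : (D x S).map (MulAut.conj s : H →* H) ≤ D x S := by
    rw [D, Subgroup.map_iSup]
    refine iSup_le fun h => ?_
    rw [D1, MonoidHom.map_closure, closure_le]
    rintro _ ⟨_, ⟨i, rfl⟩, rfl⟩
    have e : s * ((h : H)⁻¹ * (x ^ i) (h : H)) * s⁻¹ =
        ((h : H) * s⁻¹)⁻¹ * (x ^ i) ((h : H) * s⁻¹) * ((s⁻¹)⁻¹ * (x ^ i) s⁻¹)⁻¹ := by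
      rw [map_mul, map_inv]
      group
    show s * ((h : H)⁻¹ * (x ^ i) (h : H)) * s⁻¹ ∈ D x S
    rw [e]
    exact mul_mem (D1_le_D (mul_mem h.2 (inv_mem hs)) (gen_mem_D1 _ i))
      (inv_mem (D1_le_D (inv_mem hs) (gen_mem_D1 _ i)))
  exact hle ⟨d, hd, rfl⟩

theorem D_normal_top : (D x (⊤ : Subgroup H)).Normal :=
  ⟨fun _ hn g => D_normalised (mem_top g) hn⟩

theorem le_normalizer_D (S : Subgroup H) : S ≤ normalizer ((D x S : Subgroup H) : Set H) := by
  intro s hs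
  refine mem_normalizer_iff.2 fun d => ⟨D_normalised hs, fun h => ?_⟩
  have := D_normalised (inv_mem hs) h
  simpa [mul_assoc] using this

variable [Finite H] {p : ℕ} [hp : Fact p.Prime] (hxp : x ^ p = 1)
  (hcop : (Nat.card H).Coprime p)

include hxp in
theorem pow_mod (i : ℕ) : x ^ (i % p) = x ^ i := by
  conv_rhs => rw [← Nat.mod_add_div i p, pow_add, pow_mul, hxp, one_pow, mul_one]

include hcop in
theorem not_dvd_card_subgroup (S : Subgroup H) : ¬ p ∣ Nat.card S := fun h => by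
  have := Nat.Coprime.coprime_dvd_left (h.trans (card_subgroup_dvd_card S)) hcop
  exact hp.out.one_lt.ne' ((Nat.coprime_self p).1 this)

include hxp hcop in
/-- Coprime lifting of fixed points. -/
theorem lift {N : Subgroup H} (hN : Inv x N) {d : H} (hd : d⁻¹ * x d ∈ N) :
    ∃ n ∈ N, d * n ∈ Fix x := by
  classical
  haveI : Fintype N := Fintype.ofFinite N
  let f : N → N := fun n => ⟨(d⁻¹ * x d) * x n, mul_mem hd (hN n n.2)⟩
  have hinj : Function.Injective f := fun a b h => by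
    have := mul_left_cancel (congrArg Subtype.val h)
    exact Subtype.ext (x.injective this)
  let σ : Equiv.Perm N := Equiv.ofBijective f (Finite.injective_iff_bijective.1 hinj)
  have hσ : ∀ (k : ℕ) (n : N), d * ((σ ^ k) n : H) = (x ^ k) (d * n) := by
    intro k
    induction k with
    | zero => intro n; rfl
    | succ k ih =>
      intro n
      rw [pow_succ, Equiv.Perm.mul_apply, ih, pow_succ, MulAut.mul_apply]
      congr 1
      show d * ((d⁻¹ * x d) * x n) = x (d * n)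
      rw [map_mul]
      group
  have hσp : σ ^ p ^ 1 = 1 := by
    rw [pow_one]
    refine Equiv.ext fun n => Subtype.ext ?_
    have := hσ p n
    rw [hxp] at this
    exact mul_left_cancel this
  have hnd : ¬ p ∣ Fintype.card N := by
    rw [← Nat.card_eq_fintype_card]; exact not_dvd_card_subgroup hcop N
  obtain ⟨n, hn⟩ := Equiv.Perm.exists_fixed_point_of_prime hnd hσp
  refine ⟨n, n.2, ?_⟩
  have := hσ 1 n
  rw [pow_one, pow_one, hn] at this
  exact this.symm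

include hxp hcop in
/-- `S = [S, x] C_S(x)`. -/
theorem exists_decomp {S : Subgroup H} (hS : Inv x S) {s : H} (hs : s ∈ S) :
    ∃ d ∈ D x S, ∃ c ∈ S ⊓ Fix x, s = d * c := by
  have hsd : s⁻¹ * x s ∈ D x S := D1_le_D hs (gen1_mem_D1 s)
  obtain ⟨n, hn, hfix⟩ := lift hxp hcop (inv_D S) hsd
  refine ⟨s * n⁻¹ * s⁻¹, D_normalised hs (inv_mem hn), s * n,
    ⟨mul_mem hs (D_le hS hn), hfix⟩, by group⟩

include hxp hcop in
/-- `[H, x, x] = [H, x]`. -/
theorem D_D : D x (D x (⊤ : Subgroup H)) = D x ⊤ := by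
  refine le_antisymm (D_le (inv_D _)) (iSup_le fun h => ?_)
  obtain ⟨d, hd, c, hc, e⟩ := exists_decomp hxp hcop (inv_top) (mem_top (h : H))
  refine D1_le fun i => ?_
  have hd' : c⁻¹ * d * c ∈ D x ⊤ := by simpa using D_normalised (mem_top c⁻¹) hd
  have key : (h : H)⁻¹ * (x ^ i) (h : H) = (c⁻¹ * d * c)⁻¹ * (x ^ i) (c⁻¹ * d * c) := by
    rw [e, map_mul, map_mul, map_mul, map_inv, pow_fix hc.2 i]
    group
  rw [key]
  exact D1_le_D hd' (gen_mem_D1 _ i)

include hxp hcop in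
/-- Fixed points of a product are products of fixed points. -/
theorem fix_sup {A B : Subgroup H} (hA : Inv x A) (hB : Inv x B)
    (hBA : B ≤ normalizer (A : Set H)) {c : H} (hc : c ∈ Fix x) (hcm : c ∈ A ⊔ B) :
    ∃ a ∈ A ⊓ Fix x, ∃ b ∈ B ⊓ Fix x, c = a * b := by
  rw [← SetLike.mem_coe, coe_mul_of_right_le_normalizer_left _ _ hBA, Set.mem_mul] at hcm
  obtain ⟨a, ha, b, hb, e⟩ := hcm
  have hd : b⁻¹ * x b ∈ A ⊓ B := by
    refine ⟨?_, B.mul_mem (B.inv_mem hb) (hB b hb)⟩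
    have e2 : a * b = x a * x b := by rw [← map_mul, e, mem_fix.1 hc]
    have e3 : x b = (x a)⁻¹ * a * b := by rw [mul_assoc, e2, inv_mul_cancel_left]
    have := (mem_normalizer_iff.1 (hBA (inv_mem hb)) ((x a)⁻¹ * a)).1
      (mul_mem (inv_mem (hA a ha)) ha)
    rw [inv_inv] at this
    rw [e3, ← mul_assoc]
    exact this
  obtain ⟨n, ⟨hnA, hnB⟩, hfix⟩ := lift hxp hcop (inv_inf hA hB) hd
  refine ⟨c * (b * n)⁻¹, ⟨?_, (Fix x).mul_mem hc ((Fix x).inv_mem hfix)⟩, b * n,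
    ⟨mul_mem hb hnB, hfix⟩, by group⟩
  have : b * n⁻¹ * b⁻¹ ∈ A := (mem_normalizer_iff.1 (hBA hb) n⁻¹).1 (inv_mem hnA)
  have e4 : c * (b * n)⁻¹ = a * (b * n⁻¹ * b⁻¹) * 1 := by rw [← e]; simp [mul_assoc]
  rw [e4, mul_one]
  exact mul_mem ha this

include hxp hcop in
/-- A fixed element `y⁻¹ x(y)` with `y` commuting with its translates is trivial. -/
theorem eq_one_of_fix_diff {y : H} (hy : y⁻¹ * x y ∈ Fix x) : y⁻¹ * x y = 1 := by
  set g := y⁻¹ * x y with hg
  have hx : x y = y * g := by rw [hg]; group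
  have key : ∀ k : ℕ, (x ^ k) y = y * g ^ k := by
    intro k
    induction k with
    | zero => simp
    | succ k ih =>
      rw [pow_succ', MulAut.mul_apply, ih, map_mul, map_pow, mem_fix.1 hy, hx, pow_succ', mul_assoc]
  have h1 : g ^ p = 1 := by
    have := key p
    rw [hxp] at this
    exact mul_left_cancel (a := y) (by rw [← this, mul_one]; rfl)
  rw [← orderOf_eq_one_iff]
  have h2 : orderOf g ∣ p := orderOf_dvd_of_pow_eq_one h1
  exact Nat.dvd_one.1 (hcop ▸ Nat.dvd_gcd (orderOf_dvd_natCard g) h2)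

include hxp hcop in
/-- An `x`-invariant Sylow subgroup. -/
theorem exists_inv_sylow (q : ℕ) [Fact q.Prime] : ∃ R : Sylow q H, Inv x (R : Subgroup H) := by
  classical
  haveI : Fintype (Sylow q H) := Fintype.ofFinite _
  let σ : Equiv.Perm (Sylow q H) := MulAction.toPerm x
  have hσ : σ ^ p ^ 1 = 1 := by
    rw [pow_one]
    have : (MulAction.toPermHom (MulAut H) (Sylow q H) x) ^ p = 1 := by
      rw [← map_pow, hxp, map_one]
    exact this
  have hnd : ¬ p ∣ Fintype.card (Sylow q H) := by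
    rw [← Nat.card_eq_fintype_card]
    intro h
    obtain ⟨P⟩ := (inferInstance : Nonempty (Sylow q H))
    have h' : p ∣ Nat.card H := (h.trans P.card_dvd_index).trans (index_dvd_card _)
    exact hp.out.one_lt.ne' (Nat.dvd_one.1 (hcop ▸ Nat.dvd_gcd h' dvd_rfl))
  obtain ⟨R, hR⟩ := Equiv.Perm.exists_fixed_point_of_prime hnd hσ
  refine ⟨R, fun y hy => ?_⟩
  have e : ((σ R : Sylow q H) : Subgroup H) = (R : Subgroup H) := by rw [hR]
  rw [show ((σ R : Sylow q H) : Subgroup H) = x • (R : Subgroup H) from rfl] at e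
  rw [← e]
  exact Subgroup.smul_mem_pointwise_smul y x _ hy

end Cfsg.Agent.Lib.FixedGeneration
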