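import Mathlib
import Cfsg.Agent.Lib.FixedGeneration.Basic

/-!
Fixed points in a central invariant subgroup of a group that is not nilpotent.
-/

set_option autoImplicit false
set_option linter.unusedSectionVars false

open Subgroup
open scoped commutatorElement

namespace Cfsg.Agent.Lib.FixedGeneration

variable {H : Type*} [Group H] {x : MulAut H} [Finite H] {p : ℕ} [hp : Fact p.Prime]
  (hxp : x ^ p = 1) (hcop : (Nat.card H).Coprime p)

include hxp hcop in
theorem fix_mem_commutator (hD : D x (⊤ : Subgroup H) = ⊤) {v : H} (hv : v ∈ Fix x) :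
    v ∈ commutator H := by
  let φ : H →* Abelianization H :=
    MonoidHom.mk' (fun h => (Abelianization.of h)⁻¹ * Abelianization.of (x h)) fun a b => by
      simp only [map_mul, mul_inv_rev]
      ac_rfl
  have hφ : D x ⊤ ≤ φ.range.comap Abelianization.of := iSup_le fun h => D1_le fun i => by
    induction i with
    | zero => simp
    | succ i ih =>
      have e : (h : H)⁻¹ * (x ^ (i + 1)) (h : H) = ((h : H)⁻¹ * (x ^ i) (h : H)) *
          (((x ^ i) (h : H))⁻¹ * x ((x ^ i) (h : H))) := by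
        rw [pow_succ', MulAut.mul_apply]; group
      rw [e]
      refine mul_mem ih ⟨(x ^ i) (h : H), ?_⟩
      simp [φ]
  obtain ⟨h, hh⟩ := hφ (show v ∈ D x (⊤ : Subgroup H) by rw [hD]; exact mem_top v)
  set q := (Abelianization.of : H →* Abelianization H) with hq
  have hxh : q (x h) = q h * q v := by
    rw [← hh]; show _ = q h * ((q h)⁻¹ * q (x h)); group
  have hxall : ∀ y, q (x y) = Abelianization.map (x : H →* H) (q y) := fun y =>
    (Abelianization.map_of (x : H →* H) y).symm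
  have key : ∀ k : ℕ, q ((x ^ k) h) = q h * q v ^ k := by
    intro k
    induction k with
    | zero => simp
    | succ k ih =>
      rw [pow_succ', MulAut.mul_apply, hxall, ih, map_mul, map_pow, ← hxall, ← hxall,
        mem_fix.1 hv, hxh, pow_succ', mul_assoc]
  have h1 : q v ^ p = 1 := by
    have := key p
    rw [hxp] at this
    exact mul_left_cancel (a := q h) (by rw [← this, mul_one]; rfl)
  have h2 : orderOf (q v) ∣ Nat.card H :=
    (orderOf_map_dvd q v).trans (orderOf_dvd_natCard v)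
  have h3 : q v = 1 := orderOf_eq_one_iff.1
    (Nat.dvd_one.1 (hcop ▸ Nat.dvd_gcd h2 (orderOf_dvd_of_pow_eq_one h1)))
  rwa [← Abelianization.ker_of, MonoidHom.mem_ker]

include hxp hcop in
theorem inf_fix_le_of_central (hD : D x (⊤ : Subgroup H) = ⊤)
    (hsub : ∀ S : Subgroup H, Inv x S → S ≠ ⊤ → D x S ⊓ Fix x ≤ K x)
    (hnil : ¬ Group.IsNilpotent H) {ℓ : ℕ} [Fact ℓ.Prime] {V : Subgroup H} [V.Normal]
    (hVc : V ≤ center H) (hVl : IsPGroup ℓ V) (hq : Fix x ≤ K x ⊔ V) : V ⊓ Fix x ≤ K x := by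
  rintro v ⟨hvV, hvfix⟩
  obtain ⟨R, hR⟩ := exists_inv_sylow hxp hcop ℓ
  have hVR : V ≤ (R : Subgroup H) := IsPGroup.le_sylow_of_normal hVl R
  have hRtop : (R : Subgroup H) ≠ ⊤ := fun h => by
    have : IsPGroup ℓ H := (h ▸ R.isPGroup').of_equiv topEquiv
    exact hnil this.isNilpotent
  have hv' : v ∈ commutator H := fix_mem_commutator hxp hcop hD hvfix
  -- transfer into `R / R'`
  let τ : H →* Abelianization R := (Abelianization.of : R →* Abelianization R).transfer
  have hτ : τ v = 1 := Abelianization.commutator_subset_ker τ hv'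
  have keyt : ∀ (k : ℕ) (g₀ : H), g₀⁻¹ * v ^ k * g₀ ∈ (R : Subgroup H) →
      g₀⁻¹ * v ^ k * g₀ = v ^ k := fun k g₀ _ => by
    rw [mul_assoc, ← (mem_center_iff.1 (hVc (pow_mem hvV k)) g₀), inv_mul_cancel_left]
  have hpow := MonoidHom.transfer_eq_pow (Abelianization.of : R →* Abelianization R) v keyt
  set w : R := ⟨v, hVR hvV⟩ with hw
  have hwi : (Abelianization.of w : Abelianization R) ^ (R : Subgroup H).index = 1 := by
    rw [← map_pow, ← hτ]
    refine Eq.trans ?_ hpow.symm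
    rfl
  have hwR : w ∈ commutator R := by
    have hcopi : (orderOf (Abelianization.of w)).Coprime (R : Subgroup H).index := by
      obtain ⟨k, hk⟩ := (IsPGroup.iff_orderOf.1 R.isPGroup') w
      refine Nat.Coprime.coprime_dvd_left (orderOf_map_dvd _ w) ?_
      rw [hk]
      exact Nat.Coprime.pow_left k
        (((Fact.out : ℓ.Prime).coprime_iff_not_dvd).2 R.not_dvd_index)
    have h1 : Abelianization.of w = 1 := orderOf_eq_one_iff.1
      (Nat.eq_one_of_dvd_coprimes hcopi dvd_rfl (orderOf_dvd_of_pow_eq_one hwi))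
    rwa [← Abelianization.ker_of, MonoidHom.mem_ker]
  have hvR : v ∈ ⁅(R : Subgroup H), (R : Subgroup H)⁆ := by
    rw [← map_subtype_commutator]
    exact ⟨w, hwR, rfl⟩
  -- commutators of fixed points
  set DR := D x (R : Subgroup H) with hDR
  set C := (R : Subgroup H) ⊓ Fix x with hC
  have hCK : ⁅C, C⁆ ≤ K x := by
    rw [commutator_le]
    intro a ha b hb
    have hs : ∀ c ∈ C, ∃ k ∈ K x, ∃ u ∈ center H, c = k * u := fun c hc => by
      have := hq hc.2
      rw [← SetLike.mem_coe, mul_normal, Set.mem_mul] at this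
      obtain ⟨k, hk, u, hu, e⟩ := this
      exact ⟨k, hk, u, hVc hu, e.symm⟩
    obtain ⟨k, hk, u, hu, rfl⟩ := hs a ha
    obtain ⟨k', hk', u', hu', rfl⟩ := hs b hb
    have e : ⁅k * u, k' * u'⁆ = ⁅k, k'⁆ := by
      have h1 : ∀ y, y * u = u * y := mem_center_iff.1 hu
      have h2 : ∀ y, y * u' = u' * y := mem_center_iff.1 hu'
      calc ⁅k * u, k' * u'⁆ = k * (u * k') * u' * u⁻¹ * k⁻¹ * u'⁻¹ * k'⁻¹ := by
            rw [commutatorElement_def]; group
        _ = k * (k' * u) * u' * u⁻¹ * k⁻¹ * u'⁻¹ * k'⁻¹ := by rw [h1 k']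
        _ = k * k' * (u * u') * u⁻¹ * k⁻¹ * u'⁻¹ * k'⁻¹ := by group
        _ = k * k' * (u' * u) * u⁻¹ * k⁻¹ * u'⁻¹ * k'⁻¹ := by rw [h1 u']
        _ = k * k' * (u' * k⁻¹) * u'⁻¹ * k'⁻¹ := by group
        _ = k * k' * (k⁻¹ * u') * u'⁻¹ * k'⁻¹ := by rw [h2 k⁻¹]
        _ = ⁅k, k'⁆ := by rw [commutatorElement_def]; group
    rw [e, commutatorElement_def]
    exact mul_mem (mul_mem (mul_mem hk hk') (inv_mem hk)) (inv_mem hk')
  have hCR : C ≤ (R : Subgroup H) := inf_le_left
  have hDRn : (R : Subgroup H) ≤ normalizer ((DR : Subgroup H) : Set H) := le_normalizer_D _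
  have hJ : ⁅(R : Subgroup H), (R : Subgroup H)⁆ ≤ DR ⊔ ⁅C, C⁆ := by
    rw [commutator_le]
    intro a ha b hb
    obtain ⟨d, hd, c, hc, rfl⟩ := exists_decomp hxp hcop hR ha
    obtain ⟨d', hd', c', hc', rfl⟩ := exists_decomp hxp hcop hR hb
    have hn : ∀ {g z : H}, g ∈ (R : Subgroup H) → z ∈ DR → g * z * g⁻¹ ∈ DR :=
      fun hg hz => D_normalised hg hz
    have e : ⁅d * c, d' * c'⁆ =
        d * (c * d' * c⁻¹) * ((c * c' * c⁻¹) * d⁻¹ * (c * c' * c⁻¹)⁻¹) *
          (⁅c, c'⁆ * d'⁻¹ * ⁅c, c'⁆⁻¹) * ⁅c, c'⁆ := by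
      simp only [commutatorElement_def]; group
    have hcc : ⁅c, c'⁆ ∈ (R : Subgroup H) := by
      rw [commutatorElement_def]
      exact mul_mem (mul_mem (mul_mem hc.1 hc'.1) (inv_mem hc.1)) (inv_mem hc'.1)
    rw [e]
    refine mul_mem (mem_sup_left ?_) (mem_sup_right (commutator_mem_commutator hc hc'))
    exact mul_mem (mul_mem (mul_mem hd (hn hc.1 hd'))
      (hn (mul_mem (mul_mem hc.1 hc'.1) (inv_mem hc.1)) (inv_mem hd))) (hn hcc (inv_mem hd'))
  have hvJ := hJ hvR
  obtain ⟨a, ha, b, hb, rfl⟩ :=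
    fix_sup hxp hcop (inv_D _) (inv_commutator (inv_inf hR inv_fix) (inv_inf hR inv_fix))
      (((commutator_le_self C).trans hCR).trans hDRn) hvfix hvJ
  exact mul_mem (hsub _ hR hRtop ha) (hCK hb.1)

end Cfsg.Agent.Lib.FixedGeneration
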