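import Mathlib
import Cfsg.Agent.Lib.FixedGeneration.Basic
import Cfsg.Agent.Lib.CharP.MinimalOver

/-!
Fixed points in the last term of the lower central series.
-/

set_option autoImplicit false
set_option linter.unusedSectionVars false

open Subgroup
open scoped commutatorElement

namespace Cfsg.Agent.Lib.FixedGeneration

variable {H : Type*} [Group H] {x : MulAut H}

/-- The subgroup generated by the differences `y⁻¹ x(y)`, `y ∈ E`. -/
def diffs (x : MulAut H) (E : Subgroup H) : Subgroup H := closure {z | ∃ y ∈ E, z = y⁻¹ * x y}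

theorem diff_mem {E : Subgroup H} {y : H} (hy : y ∈ E) : y⁻¹ * x y ∈ diffs x E :=
  subset_closure ⟨y, hy, rfl⟩

theorem diffs_le {E : Subgroup H} (hE : Inv x E) : diffs x E ≤ E :=
  closure_le _ |>.2 fun _ ⟨y, hy, e⟩ => e ▸ mul_mem (inv_mem hy) (hE y hy)

theorem inv_diffs {E : Subgroup H} (hE : Inv x E) : Inv x (diffs x E) := by
  rw [inv_iff, diffs, MonoidHom.map_closure, closure_le]
  rintro _ ⟨_, ⟨y, hy, rfl⟩, rfl⟩
  have e : x (y⁻¹ * x y) = (x y)⁻¹ * x (x y) := by rw [map_mul, map_inv]
  show x (y⁻¹ * x y) ∈ diffs x E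
  rw [e]
  exact diff_mem (hE y hy)

theorem exists_diff {E : Subgroup H} (hE : Inv x E) (hc : ∀ a ∈ E, ∀ b ∈ E, a * b = b * a) {z : H}
    (hz : z ∈ diffs x E) : ∃ y ∈ E, z = y⁻¹ * x y := by
  refine closure_induction (p := fun z _ => ∃ y ∈ E, z = y⁻¹ * x y) (fun _ h => h)
    ⟨1, one_mem E, by simp⟩ ?_ ?_ hz
  · rintro _ _ _ _ ⟨a, ha, rfl⟩ ⟨b, hb, rfl⟩
    refine ⟨a * b, mul_mem ha hb, ?_⟩
    have h1 := hc (a⁻¹ * x a) (mul_mem (inv_mem ha) (hE a ha)) b⁻¹ (inv_mem hb)
    rw [map_mul, mul_inv_rev]
    calc a⁻¹ * x a * (b⁻¹ * x b) = (a⁻¹ * x a * b⁻¹) * x b := by group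
      _ = (b⁻¹ * (a⁻¹ * x a)) * x b := by rw [h1]
      _ = b⁻¹ * a⁻¹ * (x a * x b) := by group
  · rintro _ _ ⟨a, ha, rfl⟩
    refine ⟨a⁻¹, inv_mem ha, ?_⟩
    have h1 := hc (x a)⁻¹ (inv_mem (hE a ha)) a ha
    rw [map_inv, mul_inv_rev, inv_inv, h1]

theorem commutator_mul_left_of_central {a b c : H} (h : ⁅b, c⁆ ∈ center H) :
    ⁅a * b, c⁆ = ⁅b, c⁆ * ⁅a, c⁆ := by
  have h1 : ⁅a * b, c⁆ = (a * ⁅b, c⁆) * a⁻¹ * ⁅a, c⁆ := by
    simp only [commutatorElement_def]; group
  rw [h1, mem_center_iff.1 h a, mul_inv_cancel_right]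

theorem commutator_mul_right_of_central {a b c : H} (h : ⁅a, c⁆ ∈ center H) :
    ⁅a, b * c⁆ = ⁅a, b⁆ * ⁅a, c⁆ := by
  have h1 : ⁅a, b * c⁆ = ⁅a, b⁆ * (b * ⁅a, c⁆ * b⁻¹) := by
    simp only [commutatorElement_def]; group
  rw [h1, mem_center_iff.1 h b, mul_inv_cancel_right]

variable [Finite H] {p : ℕ} [hp : Fact p.Prime] (hxp : x ^ p = 1)
  (hcop : (Nat.card H).Coprime p)

include hxp hcop in
/-- In a central invariant subgroup whose invariant pieces have fixed points in `W`. -/
theorem mem_of_piece {W E : Subgroup H} (hE : Inv x E) (hd : diffs x E ≤ W) (hf : E ⊓ Fix x ≤ W)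
    {g : H} (hg : g ∈ E) : g ∈ W := by
  obtain ⟨n, hn, hfix⟩ := lift hxp hcop (inv_diffs hE) (diff_mem hg)
  have h1 : g * n ∈ W := hf ⟨mul_mem hg (diffs_le hE hn), hfix⟩
  exact (mul_mem_cancel_right (hd hn)).1 h1

include hxp hcop in
/-- The nilpotent case. -/
theorem exists_of_nilpotent [Nontrivial H] (hnil : Group.IsNilpotent H) (hp2 : p ≠ 2)
    (hD : D x (⊤ : Subgroup H) = ⊤)
    (hsub : ∀ S : Subgroup H, Inv x S → S ≠ ⊤ → D x S ⊓ Fix x ≤ K x) :
    ∃ V : Subgroup H, V ≠ ⊥ ∧ V.Normal ∧ Inv x V ∧ V ⊓ Fix x ≤ K x := by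
  classical
  have hmem : ∀ v : H, v ∈ D x (⊤ : Subgroup H) := fun v => by rw [hD]; exact mem_top v
  have hex := Subgroup.nilpotent_iff_lowerCentralSeries.1 hnil
  obtain ⟨n, hn, hmin⟩ : ∃ n, Subgroup.lowerCentralSeries (⊤ : Subgroup H) n = ⊥ ∧
      ∀ m < n, Subgroup.lowerCentralSeries (⊤ : Subgroup H) m ≠ ⊥ :=
    ⟨Nat.find hex, Nat.find_spec hex, fun m hm => Nat.find_min hex hm⟩
  obtain ⟨m, rfl⟩ : ∃ m, n = m + 1 := by
    refine Nat.exists_eq_succ_of_ne_zero fun h => ?_
    rw [h, Subgroup.lowerCentralSeries_zero] at hn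
    exact top_ne_bot hn
  set Γ := Subgroup.lowerCentralSeries (⊤ : Subgroup H) m with hΓ
  have hΓne : Γ ≠ ⊥ := hmin m (lt_add_one m)
  haveI : Γ.Characteristic := inferInstance
  have hΓinv : Inv x Γ := inv_characteristic Γ
  have hΓc : Γ ≤ center H := by
    have h0 : ⁅Γ, (⊤ : Subgroup H)⁆ = ⊥ := by rw [← Subgroup.lowerCentralSeries_succ]; exact hn
    rw [commutator_eq_bot_iff_le_centralizer, coe_top, centralizer_univ] at h0
    exact h0
  refine ⟨Γ, hΓne, inferInstance, hΓinv, ?_⟩
  rcases m with _ | k
  · -- abelian group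
    have hc : ∀ a ∈ (⊤ : Subgroup H), ∀ b ∈ (⊤ : Subgroup H), a * b = b * a := fun a _ b _ =>
      mem_center_iff.1 (hΓc (mem_top (x := b))) a
    rintro v ⟨-, hv⟩
    have hvd : v ∈ diffs x (⊤ : Subgroup H) := by
      have hle : D x ⊤ ≤ diffs x (⊤ : Subgroup H) := iSup_le fun h => D1_le fun i => by
        induction i with
        | zero => simp
        | succ i ih =>
          have e : (h : H)⁻¹ * (x ^ (i + 1)) (h : H) = ((h : H)⁻¹ * (x ^ i) (h : H)) *
              (((x ^ i) (h : H))⁻¹ * x ((x ^ i) (h : H))) := by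
            rw [pow_succ', MulAut.mul_apply]; group
          rw [e]
          exact mul_mem ih (diff_mem (mem_top _))
      exact hle (hmem v)
    obtain ⟨y, -, rfl⟩ := exists_diff inv_top hc hvd
    rw [eq_one_of_fix_diff hxp hcop hv]
    exact one_mem _
  set A := Subgroup.lowerCentralSeries (⊤ : Subgroup H) k with hA
  haveI : A.Characteristic := inferInstance
  have hAinv : Inv x A := inv_characteristic A
  have hAΓ : ∀ a ∈ A, ∀ b : H, ⁅a, b⁆ ∈ Γ := fun a ha b =>
    commutator_mem_commutator ha (mem_top b)
  set W := (Γ ⊓ K x) ⊔ diffs x Γ with hW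
  have hWΓ : W ≤ Γ := sup_le inf_le_left (diffs_le hΓinv)
  haveI : W.Normal := ⟨fun w hw g => by
    rw [mem_center_iff.1 (hΓc (hWΓ hw)) g, mul_inv_cancel_right]; exact hw⟩
  have hdW : diffs x Γ ≤ W := le_sup_right
  have piece : ∀ E : Subgroup H, Inv x E → E ≤ Γ → E ⊓ Fix x ≤ K x → E ≤ W := fun E h1 h2 h3 g hg =>
    mem_of_piece (W := W) hxp hcop h1
      ((closure_le _).2 fun z hz => by obtain ⟨y, hy, rfl⟩ := hz; exact hdW (diff_mem (h2 hy)))
      (fun z hz => mem_sup_left (Subgroup.mem_inf.2 ⟨h2 hz.1, h3 hz⟩)) hg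
  have hxW : ∀ g ∈ Γ, ∀ i : ℕ, g⁻¹ * (x ^ i) g ∈ W := fun g hg i => by
    induction i with
    | zero => simp
    | succ i ih =>
      have e : g⁻¹ * (x ^ (i + 1)) g =
          (g⁻¹ * (x ^ i) g) * (((x ^ i) g)⁻¹ * x ((x ^ i) g)) := by
        rw [pow_succ', MulAut.mul_apply]; group
      rw [e]
      exact mul_mem ih (hdW (diff_mem (inv_pow hΓinv i hg)))
  have hgoal : Γ ≤ W := by
    rw [hΓ, Subgroup.lowerCentralSeries_succ, commutator_le]
    intro a ha b _
    rcases k with _ | j
    · -- class two: polarisation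
      have hz : ∀ u v : H, ⁅u, v⁆ ∈ center H := fun u v => hΓc (hAΓ u (mem_top u) v)
      let q := QuotientGroup.mk' W
      let f : H → H → H ⧸ W := fun u v => q ⁅u, v⁆
      have hcomm : ∀ u v w z : H, f u v * f w z = f w z * f u v := fun u v w z => by
        show q _ * q _ = q _ * q _
        rw [← map_mul, ← map_mul, mem_center_iff.1 (hz w z) ⁅u, v⁆]
      have fl : ∀ u v w, f (u * v) w = f u w * f v w := fun u v w => by
        rw [hcomm u w v w]
        show q _ = q _ * q _
        rw [commutator_mul_left_of_central (hz v w), map_mul]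
      have fr : ∀ u v w, f u (v * w) = f u v * f u w := fun u v w => by
        show q _ = q _ * q _
        rw [commutator_mul_right_of_central (hz u w), map_mul]
      have fx : ∀ u v, f (x u) (x v) = f u v := fun u v => by
        refine (QuotientGroup.eq.2 ?_).symm
        have := hxW _ (hAΓ u (mem_top u) v) 1
        rwa [pow_one, map_commutatorElement] at this
      have hswap : ∀ u v, f u v = (f v u)⁻¹ := fun u v => by
        show q _ = (q _)⁻¹
        rw [← map_inv, commutatorElement_inv]
      have fdiag : ∀ u, f u (x u) = 1 := by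
        intro u
        let φ : H →* Abelianization H :=
          MonoidHom.mk' (fun h => (Abelianization.of h)⁻¹ * Abelianization.of (x h)) fun a b => by
            simp only [map_mul, mul_inv_rev]
            ac_rfl
        have hφ : (D x ⊤) ≤ φ.range.comap Abelianization.of := iSup_le fun h => D1_le fun i => by
          induction i with
          | zero => simp
          | succ i ih =>
            have e : (h : H)⁻¹ * (x ^ (i + 1)) (h : H) = ((h : H)⁻¹ * (x ^ i) (h : H)) *
                (((x ^ i) (h : H))⁻¹ * x ((x ^ i) (h : H))) := by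
              rw [pow_succ', MulAut.mul_apply]; group
            rw [e]
            refine mul_mem ih ⟨(x ^ i) (h : H), ?_⟩
            simp [φ]
        obtain ⟨h, hh⟩ := hφ (hmem u)
        have hh' : Abelianization.of (h⁻¹ * x h) = Abelianization.of u := by
          rw [map_mul, map_inv]; exact hh
        set g := h⁻¹ * x h with hg
        have hgz : g⁻¹ * u ∈ center H := by
          have h1 : g⁻¹ * u ∈ commutator H := by
            rw [← Abelianization.ker_of, MonoidHom.mem_ker, map_mul, map_inv, hh',
              inv_mul_cancel]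
          refine hΓc ?_
          rw [hΓ]
          show g⁻¹ * u ∈ Subgroup.lowerCentralSeries (⊤ : Subgroup H) 1
          rwa [Subgroup.top_lowerCentralSeries_one]
        set z := g⁻¹ * u with hzdef
        have hu : u = g * z := by rw [hzdef]; group
        have hxz : x z ∈ center H :=
          MulEquivClass.apply_mem_center x hgz
        have e1 : ∀ w, f z w = 1 := fun w => by
          show q _ = 1
          rw [commutatorElement_eq_one_iff_mul_comm.2 (mem_center_iff.1 hgz w).symm, map_one]
        have e2 : f g (x z) = 1 := by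
          show q _ = 1
          rw [commutatorElement_eq_one_iff_mul_comm.2 (mem_center_iff.1 hxz g), map_one]
        rw [hu, fl, e1, mul_one, map_mul, fr, e2, mul_one]
        refine (QuotientGroup.eq_one_iff _).2
          (piece (D1 x h ⊓ Γ) (inv_inf (inv_D1 _) hΓinv) inf_le_right
            (fun y hy => D1_inf_le_K h ⟨hy.1.1, hy.2⟩) ⟨?_, hAΓ _ (mem_top _) _⟩)
        have hgm : g ∈ D1 x h := gen1_mem_D1 h
        have hxg : x g ∈ D1 x h := inv_D1 h g hgm
        rw [commutatorElement_def]
        exact (D1 x h).mul_mem ((D1 x h).mul_mem ((D1 x h).mul_mem hgm hxg) ((D1 x h).inv_mem hgm))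
          ((D1 x h).inv_mem hxg)
      have key : ∀ u w, f u (x (x w)) = f u w := by
        intro u w
        have h1 := fdiag (u * x w)
        rw [map_mul, fl, fr, fr, fdiag, fdiag, one_mul, mul_one] at h1
        have h2 : f (x w) (x u) = f w u := fx w u
        rw [h2] at h1
        rw [eq_inv_of_mul_eq_one_left h1, ← hswap]
      have hT : ∀ v, f a v = 1 := by
        let T : Subgroup H :=
          { carrier := {v | f a v = 1}
            one_mem' := by
              show q _ = 1
              rw [commutatorElement_one_right, map_one]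
            mul_mem' := fun {u v} hu hv => by
              show f a (u * v) = 1
              rw [fr, show f a u = 1 from hu, show f a v = 1 from hv, one_mul]
            inv_mem' := fun {u} hu => by
              show f a u⁻¹ = 1
              have h := fr a u⁻¹ u
              rw [inv_mul_cancel] at h
              have h1 : f a (1 : H) = 1 := by show q _ = 1; rw [commutatorElement_one_right, map_one]
              rw [h1, show f a u = 1 from hu, mul_one] at h
              exact h.symm }
        have hd2 : ∀ (k : ℕ) (y : H), f a ((x ^ (2 * k)) y) = f a y := by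
          intro k
          induction k with
          | zero => intro y; simp
          | succ k ih =>
            intro y
            rw [show 2 * (k + 1) = 2 + 2 * k by ring, pow_add, MulAut.mul_apply]
            rw [show (x ^ 2) ((x ^ (2 * k)) y) = x (x ((x ^ (2 * k)) y)) from rfl, key, ih]
        have hle : D x ⊤ ≤ T := iSup_le fun h => D1_le fun i => by
          show f a _ = 1
          obtain ⟨s, hs⟩ : ∃ s, p + 1 = 2 * s := by
            obtain ⟨s, hs⟩ := (hp.out.eq_two_or_odd').resolve_left hp2
            exact ⟨s + 1, by omega⟩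
          have hxi : x ^ i = x ^ (2 * (s * i)) := by
            rw [← mul_assoc, ← hs, add_mul, one_mul, pow_add, pow_mul, hxp, one_pow, one_mul]
          rw [fr, hxi, hd2, ← fr, inv_mul_cancel]
          show q _ = 1
          rw [commutatorElement_one_right, map_one]
        exact fun v => hle (hmem v)
      exact (QuotientGroup.eq_one_iff _).1 (hT b)
    · -- higher class
      have hAc : A ≤ commutator H := by
        rw [hA, ← Subgroup.top_lowerCentralSeries_one]
        exact Subgroup.lowerCentralSeries_antitone _ (by omega)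
      obtain ⟨d, hd, c, hc, rfl⟩ := exists_decomp hxp hcop hAinv ha
      rw [commutator_mul_left_of_central (hΓc (hAΓ c hc.1 b))]
      refine mul_mem ?_ ?_
      · let T : Subgroup H :=
          { carrier := {v | ⁅c, v⁆ ∈ W}
            one_mem' := by simp [commutatorElement_one_right, one_mem]
            mul_mem' := fun {u v} hu hv => by
              show ⁅c, u * v⁆ ∈ W
              rw [commutator_mul_right_of_central (hΓc (hAΓ c hc.1 v))]
              exact mul_mem hu hv
            inv_mem' := fun {u} hu => by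
              show ⁅c, u⁻¹⁆ ∈ W
              have h := commutator_mul_right_of_central (b := u⁻¹) (hΓc (hAΓ c hc.1 u))
              rw [inv_mul_cancel, commutatorElement_one_right] at h
              rw [eq_inv_of_mul_eq_one_left h.symm]
              exact inv_mem hu }
        have hle : D x ⊤ ≤ T := iSup_le fun h => D1_le fun i => by
          show ⁅c, (h : H)⁻¹ * (x ^ i) (h : H)⁆ ∈ W
          rw [commutator_mul_right_of_central (hΓc (hAΓ c hc.1 _))]
          have e1 : ⁅c, (h : H)⁻¹⁆ = ⁅c, (h : H)⁆⁻¹ := by
            have h0 := commutator_mul_right_of_central (b := (h : H)⁻¹) (hΓc (hAΓ c hc.1 (h : H)))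
            rw [inv_mul_cancel, commutatorElement_one_right] at h0
            exact eq_inv_of_mul_eq_one_left h0.symm
          have e2 : ⁅c, (x ^ i) (h : H)⁆ = (x ^ i) ⁅c, (h : H)⁆ := by
            rw [map_commutatorElement, pow_fix hc.2 i]
          rw [e1, e2]
          exact hxW _ (hAΓ c hc.1 _) i
        exact hle (hmem b)
      · by_cases hb : ∀ h : H, D1 x h ⊔ commutator H ≠ ⊤
        · let T : Subgroup H :=
            { carrier := {v | ⁅d, v⁆ ∈ W}
              one_mem' := by simp [commutatorElement_one_right, one_mem]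
              mul_mem' := fun {u v} hu hv => by
                show ⁅d, u * v⁆ ∈ W
                rw [commutator_mul_right_of_central (hΓc (hAΓ d (D_le hAinv hd) v))]
                exact mul_mem hu hv
              inv_mem' := fun {u} hu => by
                show ⁅d, u⁻¹⁆ ∈ W
                have h := commutator_mul_right_of_central (b := u⁻¹)
                  (hΓc (hAΓ d (D_le hAinv hd) u))
                rw [inv_mul_cancel, commutatorElement_one_right] at h
                rw [eq_inv_of_mul_eq_one_left h.symm]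
                exact inv_mem hu }
          have hle : D x ⊤ ≤ T := iSup_le fun h v hv => by
            show ⁅d, v⁆ ∈ W
            set S := D1 x (h : H) ⊔ commutator H
            have hS : Inv x S := inv_sup (inv_D1 _) (inv_characteristic _)
            have hdS : d ∈ D x S := by
              have : D x A ≤ D x S := iSup_le fun y => D1_le_D (mem_sup_right (hAc y.2))
              exact this hd
            refine piece (D x S ⊓ Γ) (inv_inf (inv_D _) hΓinv) inf_le_right
              (fun y hy => hsub S hS (hb _) ⟨hy.1.1, hy.2⟩) ⟨?_, hAΓ d (D_le hAinv hd) v⟩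
            rw [commutatorElement_def, mul_assoc, mul_assoc, ← mul_assoc v]
            exact mul_mem hdS (D_normalised (mem_sup_left hv) (inv_mem hdS))
          exact hle (hmem b)
        · -- some `[h, x]` covers the group modulo its derived group
          simp only [not_forall, not_not] at hb
          obtain ⟨h, hh⟩ := hb
          have htop : D1 x h = ⊤ := by
            have hfr : frattini H ≥ commutator H := Cfsg.Agent.Lib.CharP.commutator_le_frattini hnil
            exact frattini_nongenerating
              (top_le_iff.1 (hh ▸ sup_le_sup_left hfr _))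
          refine piece Γ hΓinv le_rfl (fun y hy => D1_inf_le_K h ⟨htop ▸ mem_top y, hy.2⟩)
            (hAΓ d (D_le hAinv hd) b)
  rintro v ⟨hv, hvfix⟩
  have hcΓ : ∀ u ∈ Γ, ∀ w ∈ Γ, u * w = w * u := fun u _ w hw => mem_center_iff.1 (hΓc hw) u
  have hvW : v ∈ W := hgoal hv
  rw [hW, ← SetLike.mem_coe,
    coe_mul_of_right_le_normalizer_left _ _ (by
      intro g hg
      exact center_le_normalizer _ (hΓc (diffs_le hΓinv hg))), Set.mem_mul] at hvW
  obtain ⟨k, hk, w, hw, rfl⟩ := hvW
  have hwfix : w ∈ Fix x :=
    (mul_mem_cancel_left (K_le_fix hk.2)).1 hvfix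
  obtain ⟨y, -, rfl⟩ := exists_diff hΓinv hcΓ hw
  rw [eq_one_of_fix_diff hxp hcop hwfix, mul_one]
  exact hk.2

end Cfsg.Agent.Lib.FixedGeneration
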