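import Mathlib
import Cfsg.Agent.Lib.FixedGeneration.Basic
import Cfsg.Agent.Lib.Coprime.Conjugacy

/-!
Fixed points in a noncentral minimal invariant normal subgroup.
-/

set_option autoImplicit false
set_option linter.unusedSectionVars false

open Subgroup
open scoped commutatorElement Pointwise

namespace Cfsg.Agent.Lib.FixedGeneration

variable {H : Type*} [Group H] {x : MulAut H}

/-- A set whose commutators with `V` lie in `N` generates a subgroup with the same property. -/
theorem commutator_closure_le [Finite H] {V N : Subgroup H} [V.Normal] (hN : N ≤ V) {T : Set H}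
    (h : ∀ t ∈ T, ∀ v ∈ V, ⁅v, t⁆ ∈ N) : ∀ g ∈ closure T, ∀ v ∈ V, ⁅v, g⁆ ∈ N := by
  intro g hg
  refine closure_induction (p := fun g _ => ∀ v ∈ V, ⁅v, g⁆ ∈ N) h
    (fun v _ => by simp [commutatorElement_one_right, one_mem]) ?_ ?_ hg
  · intro a b _ _ ha hb v hv
    have e : ⁅v, a * b⁆ = ⁅v, a⁆ * (⁅⁅v, b⁆, a⁆⁻¹ * ⁅v, b⁆) := by
      simp only [commutatorElement_def]; group
    rw [e]
    exact mul_mem (ha v hv) (mul_mem (inv_mem (ha _ (hN (hb v hv)))) (hb v hv))
  · intro a _ ha v hv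
    set u := a⁻¹ * ⁅v, a⁆⁻¹ * a with hu
    have hN' : ⁅v, a⁆ ∈ N := ha v hv
    have huV : u ∈ V := Subgroup.Normal.conj_mem' inferInstance _ (inv_mem (hN hN')) a
    have e1 : ⁅v, a⁻¹⁆ = u := by rw [hu]; simp only [commutatorElement_def]; group
    have e2 : ⁅u, a⁆ = u * ⁅v, a⁆ := by rw [hu]; simp only [commutatorElement_def]; group
    rw [e1]
    exact (mul_mem_cancel_right hN').1 (e2 ▸ ha u huV)

variable [Finite H] {p : ℕ} [hp : Fact p.Prime] (hxp : x ^ p = 1)
  (hcop : (Nat.card H).Coprime p) {V : Subgroup H} [V.Normal] (hVinv : Inv x V)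
  (hVab : ∀ a ∈ V, ∀ b ∈ V, a * b = b * a)

include hxp hcop hVinv hVab in
theorem good_fixed (hq : Fix x ≤ K x ⊔ V) {c : H} (hc : c ∈ Fix x) :
    ⁅V, zpowers c⁆ ⊓ Fix x ≤ K x := by
  let I : Subgroup H :=
    { carrier := {z | ∃ v ∈ V, z = ⁅v, c⁆}
      one_mem' := ⟨1, one_mem _, by simp⟩
      mul_mem' := by
        rintro _ _ ⟨v, hv, rfl⟩ ⟨w, hw, rfl⟩
        refine ⟨v * w, mul_mem hv hw, ?_⟩
        have hm : ⁅w, c⁆ ∈ V := commutator_le_left V ⊤ (commutator_mem_commutator hw (mem_top c))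
        have e : ⁅v * w, c⁆ = v * ⁅w, c⁆ * v⁻¹ * ⁅v, c⁆ := by
          simp only [commutatorElement_def]; group
        have hm' : ⁅v, c⁆ ∈ V := commutator_le_left V ⊤ (commutator_mem_commutator hv (mem_top c))
        rw [e, hVab v hv _ hm, mul_inv_cancel_right, hVab _ hm _ hm']
      inv_mem' := by
        rintro _ ⟨v, hv, rfl⟩
        refine ⟨v⁻¹, inv_mem hv, ?_⟩
        have e : ⁅v⁻¹, c⁆ = v⁻¹ * ⁅v, c⁆⁻¹ * v := by simp only [commutatorElement_def]; group
        have hm' : ⁅v, c⁆⁻¹ ∈ V :=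
          inv_mem (commutator_le_left V ⊤ (commutator_mem_commutator hv (mem_top c)))
        rw [e, hVab _ (inv_mem hv) _ hm', inv_mul_cancel_right] }
  have hIV : I ≤ V := by
    rintro _ ⟨v, hv, rfl⟩
    exact commutator_le_left V ⊤ (commutator_mem_commutator hv (mem_top c))
  have hle : ⁅V, zpowers c⁆ ≤ I := commutator_le.2 fun v hv g hg =>
    commutator_closure_le (N := I) hIV (T := {c})
      (fun t ht v hv => by rw [Set.mem_singleton_iff.1 ht]; exact ⟨v, hv, rfl⟩) g
      (by rwa [← zpowers_eq_closure]) v hv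
  rintro _ ⟨hg, hgfix⟩
  obtain ⟨v, hv, rfl⟩ := hle hg
  have hxc : x c = c := hc
  have hd : v⁻¹ * x v ∈ V ⊓ centralizer {c} := by
    refine ⟨V.mul_mem (V.inv_mem hv) (hVinv v hv), mem_centralizer_singleton_iff.2 ?_⟩
    have h1 : ⁅x v, c⁆ = ⁅v, c⁆ := by
      conv_lhs => rw [← hxc]
      rw [← map_commutatorElement, mem_fix.1 hgfix]
    have h2 : x v * c * (x v)⁻¹ = v * c * v⁻¹ := mul_right_cancel (b := c⁻¹) h1
    calc v⁻¹ * x v * c = v⁻¹ * (x v * c * (x v)⁻¹) * x v := by group
      _ = v⁻¹ * (v * c * v⁻¹) * x v := by rw [h2]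
      _ = c * (v⁻¹ * x v) := by group
  have hinv : Inv x (V ⊓ centralizer {c}) := inv_inf hVinv fun y hy => by
    rw [mem_centralizer_singleton_iff] at hy ⊢
    have := congrArg x hy
    rwa [map_mul, map_mul, hxc] at this
  obtain ⟨n, ⟨hnV, hnc⟩, hfix⟩ := lift hxp hcop hinv hd
  have e : ⁅v, c⁆ = ⁅v * n, c⁆ := by
    have h1 : n * c * n⁻¹ = c := by
      rw [mem_centralizer_singleton_iff.1 hnc]; group
    simp only [commutatorElement_def]
    calc v * c * v⁻¹ * c⁻¹ = v * (n * c * n⁻¹) * v⁻¹ * c⁻¹ := by rw [h1]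
      _ = _ := by group
  rw [e]
  have hck := hq hc
  rw [← SetLike.mem_coe, mul_normal, Set.mem_mul] at hck
  obtain ⟨k, hk, w, hw, ekw⟩ := hck
  have hu : v * n ∈ V := mul_mem hv hnV
  have e2 : ⁅v * n, c⁆ = v * n * k * (v * n)⁻¹ * k⁻¹ := by
    rw [← ekw]
    generalize v * n = u at hu ⊢
    have h3 := hVab w hw u⁻¹ (inv_mem hu)
    calc ⁅u, k * w⁆ = u * k * (w * u⁻¹) * w⁻¹ * k⁻¹ := by rw [commutatorElement_def]; group
      _ = u * k * (u⁻¹ * w) * w⁻¹ * k⁻¹ := by rw [h3]
      _ = _ := by group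
  rw [e2]
  exact mul_mem (conj_fix_K hfix hk) (inv_mem hk)

include hxp hcop hVinv hVab in
/-- A finite join of good subgroups of `V` is good. -/
theorem good_sup {ι : Type*} (F : Finset ι) (W : ι → Subgroup H) (hWV : ∀ i ∈ F, W i ≤ V)
    (hWinv : ∀ i ∈ F, Inv x (W i)) (hW : ∀ i ∈ F, W i ⊓ Fix x ≤ K x) :
    F.sup W ⊓ Fix x ≤ K x ∧ F.sup W ≤ V ∧ Inv x (F.sup W) := by
  classical
  induction F using Finset.induction with
  | empty => simp [inv_bot]
  | insert a F ha ih =>
    obtain ⟨h1, h2, h3⟩ := ih (fun i hi => hWV i (Finset.mem_insert_of_mem hi))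
      (fun i hi => hWinv i (Finset.mem_insert_of_mem hi))
      (fun i hi => hW i (Finset.mem_insert_of_mem hi))
    rw [Finset.sup_insert]
    refine ⟨?_, sup_le (hWV a (Finset.mem_insert_self a F)) h2,
      inv_sup (hWinv a (Finset.mem_insert_self a F)) h3⟩
    rintro c ⟨hc, hcf⟩
    have hnorm : F.sup W ≤ normalizer ((W a : Subgroup H) : Set H) := fun b hb => by
      refine mem_normalizer_iff.2 fun z => ⟨fun hz => ?_, fun hz => ?_⟩
      · rw [hVab b (h2 hb) z (hWV a (Finset.mem_insert_self a F) hz), mul_inv_cancel_right]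
        exact hz
      · have hz' := hWV a (Finset.mem_insert_self a F) hz
        have e : z = b⁻¹ * (b * z * b⁻¹) * b := by group
        rw [e, hVab _ (inv_mem (h2 hb)) _ hz', inv_mul_cancel_right]
        exact hz
    obtain ⟨u, hu, b, hb, rfl⟩ :=
      fix_sup hxp hcop (hWinv a (Finset.mem_insert_self a F)) h3 hnorm hcf hc
    exact mul_mem (hW a (Finset.mem_insert_self a F) hu) (h1 hb)

include hxp hcop hVinv hVab in
theorem inf_fix_le_of_noncentral [Group.IsSolvable H] (hp2 : p ≠ 2) {ℓ : ℕ} [Fact ℓ.Prime]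
    (hVl : IsPGroup ℓ V) (hmin : ∀ W : Subgroup H, W.Normal → Inv x W → W ≤ V → W ≠ ⊥ → W = V)
    (hVc : ¬ V ≤ center H) (hnil : ¬ Group.IsNilpotent H) (hD : D x (⊤ : Subgroup H) = ⊤)
    (hsub : ∀ S : Subgroup H, Inv x S → S ≠ ⊤ → D x S ⊓ Fix x ≤ K x)
    (hq : Fix x ≤ K x ⊔ V) : V ⊓ Fix x ≤ K x := by
  classical
  have hV1 : V ≠ ⊥ := fun h => hVc (h ▸ bot_le)
  have hVtop : V ≠ ⊤ := fun h => hVc fun v hv => mem_center_iff.2 fun g =>
    hVab g (h ▸ mem_top g) v hv
  have hC0 : V ⊓ center H = ⊥ := by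
    by_contra h
    have := hmin (V ⊓ center H) inferInstance (inv_inf hVinv (inv_characteristic _)) inf_le_left h
    exact hVc (this ▸ inf_le_right)
  -- the good subgroups and what they generate
  haveI : Fintype (Subgroup H) := Fintype.ofFinite _
  let G0 : Finset (Subgroup H) :=
    Finset.univ.filter fun M => Inv x M ∧ ⁅V, M⁆ ⊓ Fix x ≤ K x
  have hG0 : ∀ M, M ∈ G0 ↔ Inv x M ∧ ⁅V, M⁆ ⊓ Fix x ≤ K x := fun M => by simp [G0]
  set N := G0.sup (fun M => ⁅V, M⁆) with hNdef
  obtain ⟨hNK, hNV, -⟩ := good_sup hxp hcop hVinv hVab G0 (fun M => ⁅V, M⁆)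
    (fun M _ => commutator_le_left V M)
    (fun M hM => inv_commutator hVinv ((hG0 M).1 hM).1) (fun M hM => ((hG0 M).1 hM).2)
  set Ms := closure (⋃ M ∈ G0, (M : Set H)) with hMs
  have hcomm : ∀ g ∈ Ms, ∀ v ∈ V, ⁅v, g⁆ ∈ N := commutator_closure_le hNV fun t ht v hv => by
    simp only [Set.mem_iUnion] at ht
    obtain ⟨M, hM, htM⟩ := ht
    exact Finset.le_sup (f := fun M => ⁅V, M⁆) hM (commutator_mem_commutator hv htM)
  have hGle : ∀ M ∈ G0, M ≤ Ms := fun M hM g hg =>
    subset_closure (Set.mem_iUnion₂.2 ⟨M, hM, hg⟩)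
  have hdone : ∀ W : Subgroup H, W.Normal → Inv x W → W ≤ V → W ≠ ⊥ → W ≤ N →
      V ⊓ Fix x ≤ K x := fun W h1 h2 h3 h4 h5 =>
    (inf_le_inf_right _ ((hmin W h1 h2 h3 h4).symm.le.trans h5)).trans hNK
  by_cases hMtop : Ms = ⊤
  · refine hdone ⁅V, ⊤⁆ inferInstance (inv_commutator hVinv inv_top) (commutator_le_left V ⊤) ?_
      (commutator_le.2 fun v hv g _ => hcomm g (hMtop ▸ mem_top g) v hv)
    rw [ne_eq, commutator_eq_bot_iff_le_centralizer, coe_top]
    exact fun h => hVc (h.trans (le_of_eq centralizer_univ))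
  have hVMs : V ≤ Ms := hGle V ((hG0 V).2 ⟨hVinv, by
    rw [show ⁅V, V⁆ = ⊥ from ?_]
    · simp
    · exact commutator_eq_bot_iff_le_centralizer.2 fun a ha => fun b hb => hVab b hb a ha⟩)
  have hfixMs : Fix x ≤ Ms := fun c hc =>
    hGle (zpowers c) ((hG0 _).2 ⟨inv_zpowers_fix hc, good_fixed hxp hcop hVinv hVab hq hc⟩)
      (mem_zpowers c)
  have hJMs : ∀ J : Subgroup H, Inv x J → V ⊔ J ≠ ⊤ → J ≤ Ms := fun J hJ hne j hj => by
    obtain ⟨d, hd, c, hc, rfl⟩ := exists_decomp hxp hcop hJ hj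
    refine mul_mem (hGle (D x J) ((hG0 _).2 ⟨inv_D _, ?_⟩) hd) (hfixMs hc.2)
    refine le_trans (inf_le_inf_right _ (commutator_le.2 fun v hv g hg => ?_))
      (hsub _ (inv_sup hVinv hJ) hne)
    have hg' : g ∈ D x (V ⊔ J) :=
      (iSup_le fun y : J => D1_le_D (mem_sup_right y.2) : D x J ≤ D x (V ⊔ J)) hg
    rw [commutatorElement_def]
    exact mul_mem (D_normalised (mem_sup_left hv) hg') (inv_mem hg')
  obtain ⟨h, hh⟩ : ∃ h : H, V ⊔ D1 x h = ⊤ := by
    by_contra hne
    simp only [not_exists] at hne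
    have : D x (⊤ : Subgroup H) ≤ Ms := iSup_le fun y => hJMs _ (inv_D1 _) (hne y)
    exact hMtop (top_le_iff.1 (hD ▸ this))
  by_cases hL1 : ∃ y : H, D1 x y = ⊤
  · obtain ⟨y, hy⟩ := hL1
    exact fun v hv => D1_inf_le_K y ⟨hy ▸ mem_top v, hv.2⟩
  simp only [not_exists] at hL1
  have hcompl : ∀ y : H, V ⊔ D1 x y = ⊤ → IsComplement' V (D1 x y) := fun y hy => by
    refine isComplement'_of_disjoint_and_mul_eq_univ (disjoint_iff.2 ?_)
      (by rw [← normal_mul, hy, coe_top])
    by_contra hne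
    have hn : (V ⊓ D1 x y).Normal := normalizer_eq_top_iff.1 (top_le_iff.1 (by
      rw [← hy]
      refine sup_le (fun v hv => mem_normalizer_iff.2 fun z => ⟨fun hz => ?_, fun hz => ?_⟩)
        fun g hg => mem_normalizer_iff.2 fun z => ⟨fun hz => ?_, fun hz => ?_⟩
      · rw [hVab v hv z hz.1, mul_inv_cancel_right]; exact hz
      · have e : z = v⁻¹ * (v * z * v⁻¹) * v := by group
        rw [e, hVab _ (inv_mem hv) _ hz.1, inv_mul_cancel_right]; exact hz
      · exact ⟨Subgroup.Normal.conj_mem inferInstance z hz.1 g,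
          (D1 x y).mul_mem ((D1 x y).mul_mem hg hz.2) ((D1 x y).inv_mem hg)⟩
      · have e : z = g⁻¹ * (g * z * g⁻¹) * g := by group
        rw [e]
        exact ⟨Subgroup.Normal.conj_mem' inferInstance _ hz.1 g,
          (D1 x y).mul_mem ((D1 x y).mul_mem ((D1 x y).inv_mem hg) hz.2) hg⟩))
    have := hmin _ hn (inv_inf hVinv (inv_D1 _)) inf_le_left hne
    exact hL1 y (top_le_iff.1 (hy ▸ sup_le (this ▸ inf_le_right) le_rfl))
  set L := D1 x h with hLdef
  have hLinv : Inv x L := inv_D1 h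
  have hVL : IsComplement' V L := hcompl h hh
  have hdisj : ∀ z, z ∈ V → z ∈ L → z = 1 := fun z h1 h2 =>
    (Subgroup.mem_bot).1 (disjoint_iff.1 hVL.disjoint ▸ Subgroup.mem_inf.2 ⟨h1, h2⟩)
  have hLsub : ∀ J : Subgroup H, Inv x J → J ≤ L → J ≠ L → J ≤ Ms := fun J hJ hJL hne => by
    refine hJMs J hJ fun htop => hne (le_antisymm hJL fun g hg => ?_)
    have : g ∈ ((V : Set H) * J) := by rw [← normal_mul, htop]; trivial
    obtain ⟨v, hv, j, hj, e⟩ := Set.mem_mul.1 this
    have : v = 1 := hdisj v hv (by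
      rw [show v = g * j⁻¹ by rw [← e]; group]; exact mul_mem hg (inv_mem (hJL hj)))
    rw [← e, this, one_mul]; exact hj
  have hLMs : ¬ L ≤ Ms := fun hle => hMtop (top_le_iff.1 (hh ▸ sup_le hVMs hle))
  -- a prime `r ≠ ℓ` with `L` an `r`-group
  obtain ⟨r, hr, hrℓ, hLr⟩ : ∃ r, r.Prime ∧ r ≠ ℓ ∧ IsPGroup r L := by
    by_contra hno
    refine hMtop (index_eq_one.1 (Nat.eq_one_iff_not_exists_prime_dvd.2 fun r hr hdvd => ?_))
    haveI : Fact r.Prime := ⟨hr⟩
    obtain ⟨R, hR⟩ := exists_inv_sylow (q := r) hxp hcop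
    by_cases hRtop : V ⊔ (R : Subgroup H) = ⊤
    · by_cases hrl : r = ℓ
      · subst hrl
        have hVR : V ≤ (R : Subgroup H) := IsPGroup.le_sylow_of_normal hVl R
        rw [sup_of_le_right hVR] at hRtop
        exact hnil ((hRtop ▸ R.isPGroup').of_equiv topEquiv).isNilpotent
      · have hdis : Disjoint V (R : Subgroup H) :=
          IsPGroup.disjoint_of_ne (p₁ := ℓ) (p₂ := r) (Ne.symm hrl) _ _ hVl R.isPGroup'
        have hc : IsComplement' V (R : Subgroup H) := isComplement'_of_disjoint_and_mul_eq_univ hdis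
          (by rw [← normal_mul, hRtop, coe_top])
        obtain ⟨k, hk⟩ := IsPGroup.iff_card.1 R.isPGroup'
        refine hno ⟨r, hr, hrl, IsPGroup.of_card (n := k) ?_⟩
        rw [← hk, ← hc.symm.index_eq_card, hVL.symm.index_eq_card]
    · exact R.not_dvd_index (hdvd.trans (index_dvd_of_le (hJMs _ hR hRtop)))
  haveI : Fact r.Prime := ⟨hr⟩
  have hcopLV : (Nat.card L).Coprime (Nat.card V) := by
    obtain ⟨k, hk⟩ := IsPGroup.iff_card.1 hLr
    obtain ⟨m, hm⟩ := IsPGroup.iff_card.1 hVl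
    rw [hk, hm]
    exact ((Nat.coprime_primes hr (Fact.out : ℓ.Prime)).2 hrℓ).pow k m
  -- the maximal invariant subgroup of `L`
  let M0 : Subgroup H := sSup {J | Inv x J ∧ J ≤ L ∧ J ≠ L}
  have hM0inv : Inv x M0 := inv_sSup fun J hJ => hJ.1
  have hM0L : M0 ≤ L := sSup_le fun J hJ => hJ.2.1
  have hM0Ms : M0 ≤ Ms := sSup_le fun J hJ => hLsub J hJ.1 hJ.2.1 hJ.2.2
  have hmax : ∀ J : Subgroup H, Inv x J → J ≤ L → J ≠ L → J ≤ M0 := fun J h1 h2 h3 =>
    le_sSup ⟨h1, h2, h3⟩
  have hL0 : L ≠ ⊥ := fun h0 => hVtop (by rw [← hh, h0, sup_bot_eq])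
  have hLL : ⁅L, L⁆ ≤ M0 := by
    refine hmax _ (inv_commutator hLinv hLinv) (commutator_le_self L) ?_
    exact (Group.IsSolvable.commutator_lt_of_ne_bot hL0).ne
  have hM0n : ∀ g ∈ L, ∀ m ∈ M0, g * m * g⁻¹ ∈ M0 := fun g hg m hm => by
    rw [show g * m * g⁻¹ = ⁅g, m⁆ * m by rw [commutatorElement_def]; group]
    exact mul_mem (hLL (commutator_mem_commutator hg (hM0L hm))) hm
  by_cases hM0c : ⁅V, M0⁆ ≠ ⊥
  · refine hdone ⁅V, M0⁆ ?_ (inv_commutator hVinv hM0inv) (commutator_le_left V M0) hM0c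
      (commutator_le.2 fun v hv g hg => hcomm g (hM0Ms hg) v hv)
    refine normalizer_eq_top_iff.1 (top_le_iff.1 (hh ▸ sup_le (fun v hv => ?_) fun g hg => ?_))
    · refine mem_normalizer_iff.2 fun z => ⟨fun hz => ?_, fun hz => ?_⟩
      · rw [hVab v hv z (commutator_le_left V M0 hz), mul_inv_cancel_right]; exact hz
      · have e : z = v⁻¹ * (v * z * v⁻¹) * v := by group
        rw [e, hVab _ (inv_mem hv) _ (commutator_le_left V M0 hz), inv_mul_cancel_right]
        exact hz
    · have hstep : ∀ g ∈ L, ∀ z ∈ ⁅V, M0⁆, g * z * g⁻¹ ∈ ⁅V, M0⁆ := fun g hg z hz => by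
        have hle : (⁅V, M0⁆).map (MulAut.conj g : H →* H) ≤ ⁅V, M0⁆ := by
          rw [map_commutator]
          refine commutator_mono ?_ ?_
          · rintro _ ⟨v, hv, rfl⟩; exact Subgroup.Normal.conj_mem inferInstance v hv g
          · rintro _ ⟨m, hm, rfl⟩; exact hM0n g hg m hm
        exact hle ⟨z, hz, rfl⟩
      refine mem_normalizer_iff.2 fun z => ⟨hstep g hg z, fun hz => ?_⟩
      have := hstep g⁻¹ (inv_mem hg) _ hz
      simpa [mul_assoc] using this
  rw [not_not, commutator_eq_bot_iff_le_centralizer] at hM0c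
  have hcent : ∀ m ∈ M0, ∀ v ∈ V, m * v * m⁻¹ = v := fun m hm v hv => by
    rw [(mem_centralizer_iff.1 (hM0c hv) m hm), mul_inv_cancel_right]
  have hab : ∀ a ∈ L, ∀ b ∈ L, ∀ v ∈ V,
      a * (b * v * b⁻¹) * a⁻¹ = b * (a * v * a⁻¹) * b⁻¹ := fun a ha b hb v hv => by
    have hm : ⁅a⁻¹, b⁻¹⁆ ∈ M0 := hLL (commutator_mem_commutator (inv_mem ha) (inv_mem hb))
    calc a * (b * v * b⁻¹) * a⁻¹ = a * (b * (⁅a⁻¹, b⁻¹⁆⁻¹ * (⁅a⁻¹, b⁻¹⁆ * v * ⁅a⁻¹, b⁻¹⁆⁻¹) *
          ⁅a⁻¹, b⁻¹⁆) * b⁻¹) * a⁻¹ := by group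
      _ = a * (b * (⁅a⁻¹, b⁻¹⁆⁻¹ * v * ⁅a⁻¹, b⁻¹⁆) * b⁻¹) * a⁻¹ := by rw [hcent _ hm v hv]
      _ = b * (a * v * a⁻¹) * b⁻¹ := by
        have h1 := hcent _ (inv_mem hm) v hv
        rw [inv_inv] at h1
        rw [h1]
        have h2 := hcent _ (hLL (commutator_mem_commutator ha hb))
          (b * (a * v * a⁻¹) * b⁻¹) (Subgroup.Normal.conj_mem inferInstance _
            (Subgroup.Normal.conj_mem inferInstance v hv a) b)
        rw [← h2]; simp only [commutatorElement_def]; group
  have hCL : ∀ g ∈ L, g ∈ Fix x → g ∈ M0 := fun g hg hgf => by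
    refine hmax (L ⊓ Fix x) (inv_inf hLinv inv_fix) inf_le_left (fun e => hVtop ?_)
      ⟨hg, hgf⟩
    have hLF : L ≤ Fix x := e ▸ inf_le_right
    refine top_le_iff.1 (hD ▸ iSup_le fun y => D1_le fun i => ?_)
    have : (y : H) ∈ ((V : Set H) * L) := by rw [← normal_mul, hh]; trivial
    obtain ⟨v, hv, l, hl, e'⟩ := Set.mem_mul.1 this
    rw [← e', map_mul, pow_fix (hLF hl) i,
      show (v * l)⁻¹ * ((x ^ i) v * l) = l⁻¹ * (v⁻¹ * (x ^ i) v) * l by group]
    exact Subgroup.Normal.conj_mem' inferInstance _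
      (mul_mem (inv_mem hv) (inv_pow hVinv i hv)) l
  have hgood : ∀ l ∈ L, l⁻¹ * x l ∈ M0 → l ∈ M0 := fun l hl hd => by
    obtain ⟨n, hn, hfix⟩ := lift hxp hcop hM0inv hd
    exact (mul_mem_cancel_right hn).1 (hCL _ (mul_mem hl (hM0L hn)) hfix)
  have hgen : ∀ l ∈ L, l ∉ M0 → D1 x l = L := fun l hl hl0 => by
    by_contra hne
    exact hl0 (hgood l hl
      (hmax _ (inv_D1 l) (D1_le fun i => mul_mem (inv_mem hl) (inv_pow hLinv i hl)) hne
        (gen1_mem_D1 l)))
  obtain ⟨l, hlL, hl0⟩ : ∃ l ∈ L, l ∉ M0 := by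
    by_contra hno
    simp only [not_exists, not_and, not_not] at hno
    exact hLMs fun g hg => hM0Ms (hno g hg)
  by_contra hgoal
  -- `V` is the product of the fixed points and any conjugate of them
  have hkey : ∀ l ∈ L, l ∉ M0 → ∀ v ∈ V,
      ∃ a ∈ V ⊓ Fix x, ∃ b ∈ V ⊓ Fix x, v = l⁻¹ * a * l * b := by
    intro l hlL hl0 v hv
    set J := D1 x (l * v) with hJdef
    have hJtop : V ⊔ J = ⊤ := top_le_iff.1 (hh ▸ sup_le le_sup_left (by
      rw [← hgen l hlL hl0]
      refine D1_le fun i => ?_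
      have e : l⁻¹ * (x ^ i) l = v * ((l * v)⁻¹ * (x ^ i) (l * v)) * ((x ^ i) v)⁻¹ := by
        rw [map_mul]; group
      rw [e]
      exact mul_mem (mul_mem (mem_sup_left hv) (mem_sup_right (gen_mem_D1 _ i)))
        (mem_sup_left (inv_mem (inv_pow hVinv i hv)))))
    have hJ : IsComplement' V J := hcompl _ hJtop
    obtain ⟨w, hwV, hw⟩ := Cfsg.Agent.Lib.Coprime.exists_conj_eq_of_coprime
      (A := L) (K := V) (B := J) le_normalizer_of_normal hcopLV
      (Or.inl inferInstance) (by rw [sup_comm, hh]; exact le_top)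
      (hJ.symm.index_eq_card.symm.trans hVL.symm.index_eq_card)
    have hmemJ : ∀ g ∈ L, w * g * w⁻¹ ∈ J := fun g hg => by
      rw [← hw]; exact ⟨g, hg, rfl⟩
    have hofJ : ∀ g ∈ J, w⁻¹ * g * w ∈ L := fun g hg => by
      rw [← hw] at hg
      obtain ⟨y, hy, e⟩ := hg
      have e' : w * y * w⁻¹ = g := e
      rw [← e', show w⁻¹ * (w * y * w⁻¹) * w = y by group]
      exact hy
    -- the conjugating element is fixed
    have hwfix : x w = w := by
      set u := w⁻¹ * x w with hu
      have huV : u ∈ V := mul_mem (inv_mem hwV) (hVinv w hwV)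
      have hnor : ∀ g ∈ L, u * g * u⁻¹ ∈ L := fun g hg => by
        obtain ⟨y, hy, rfl⟩ : ∃ y ∈ L, x y = g := by
          refine ⟨(x ^ (p - 1)) g, inv_pow hLinv _ hg, ?_⟩
          rw [← MulAut.mul_apply, ← pow_succ', Nat.sub_add_cancel hp.out.one_le, hxp]; rfl
        have h1 := hofJ _ (inv_D1 _ _ (hmemJ y hy))
        rw [map_mul, map_mul, map_inv] at h1
        rw [hu]
        convert h1 using 1
        group
      have huc : u ∈ center H := by
        rw [mem_center_iff]
        intro g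
        have hg : g ∈ ((V : Set H) * L) := by rw [← normal_mul, hh]; trivial
        obtain ⟨a, ha, b, hb, rfl⟩ := Set.mem_mul.1 hg
        have h2 : u * b = b * u := by
          have h3 : ⁅u, b⁆ = 1 := hdisj _
            (commutator_le_left V ⊤ (commutator_mem_commutator huV (mem_top b)))
            (by rw [commutatorElement_def]; exact mul_mem (hnor b hb) (inv_mem hb))
          exact commutatorElement_eq_one_iff_mul_comm.1 h3
        rw [mul_assoc, ← h2, ← mul_assoc, hVab a ha u huV, mul_assoc]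
      have : u = 1 := by
        rw [← Subgroup.mem_bot, ← hC0]; exact ⟨huV, huc⟩
      exact (inv_mul_eq_one.1 this).symm
    set g := w * l * w⁻¹ with hg
    have hy : (l * v)⁻¹ * x (l * v) ∈ J := gen1_mem_D1 _
    have hy' : g⁻¹ * x g ∈ J := by
      have e : g⁻¹ * x g = w * (l⁻¹ * x l) * w⁻¹ := by
        rw [hg, map_mul, map_mul, map_inv, hwfix]; group
      rw [e]
      exact hmemJ _ (mul_mem (inv_mem hlL) (hLinv l hlL))
    have hyy : (l * v)⁻¹ * x (l * v) = g⁻¹ * x g := by
      let q := QuotientGroup.mk' V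
      have q1 : ∀ z ∈ V, q z = 1 := fun z hz => (QuotientGroup.eq_one_iff z).2 hz
      have hmod : q ((l * v)⁻¹ * x (l * v)) = q (g⁻¹ * x g) := by
        rw [hg]
        simp only [map_mul, map_inv, hwfix, q1 v hv, q1 w hwV, q1 _ (hVinv v hv)]
        group
      have hmem : ((l * v)⁻¹ * x (l * v))⁻¹ * (g⁻¹ * x g) ∈ V ⊓ J :=
        Subgroup.mem_inf.2 ⟨QuotientGroup.eq.1 hmod, mul_mem (inv_mem hy) hy'⟩
      rw [disjoint_iff.1 hJ.disjoint, Subgroup.mem_bot] at hmem
      exact inv_mul_eq_one.1 hmem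
    set u := l * v * g⁻¹ with hu
    have hufix : u ∈ Fix x := by
      show x u = u
      have e1 : x (l * v) = l * v * (g⁻¹ * x g) := by rw [← hyy]; group
      rw [hu, map_mul, map_inv, e1]; group
    have huV : u ∈ V := by
      refine (QuotientGroup.eq_one_iff u).1 ?_
      let q := QuotientGroup.mk' V
      have q1 : ∀ z ∈ V, q z = 1 := fun z hz => (QuotientGroup.eq_one_iff z).2 hz
      show q u = 1
      rw [hu, hg]
      simp only [map_mul, map_inv, q1 v hv, q1 w hwV]
      group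
    refine ⟨u * w, ⟨mul_mem huV hwV, mul_mem hufix hwfix⟩, w⁻¹,
      Subgroup.mem_inf.2 ⟨inv_mem hwV, inv_mem (hwfix : w ∈ Fix x)⟩, ?_⟩
    rw [hu, hg]; group
  obtain ⟨c0, hc0, hc01⟩ : ∃ c ∈ V ⊓ Fix x, c ≠ 1 := by
    by_contra hno
    simp only [not_exists, not_and, not_not] at hno
    exact hgoal fun c hc => by rw [hno c hc]; exact one_mem _
  letI : CommGroup V :=
    { (inferInstance : Group V) with mul_comm := fun a b => Subtype.ext (hVab a a.2 b b.2) }
  let cj : H → (V →* V) := fun g =>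
    ((MulAut.conjNormal g : MulAut V) : V →* V)
  have hcj : ∀ g (v : V), ((cj g v : V) : H) = g * v * g⁻¹ := fun g v =>
    MulAut.conjNormal_apply g v
  have hxpow : ∀ k : ℕ, x ^ (k % p) = x ^ k := pow_mod hxp
  have hne : ∀ d : ℕ, ¬ p ∣ d → l⁻¹ * (x ^ d) l ∉ M0 := by
    intro d hd hmem
    have hmul : ∀ n : ℕ, l⁻¹ * (x ^ (d * n)) l ∈ M0 := by
      intro n
      induction n with
      | zero => simp
      | succ n ih =>
        have e : l⁻¹ * (x ^ (d * (n + 1))) l =
            (l⁻¹ * (x ^ d) l) * (x ^ d) (l⁻¹ * (x ^ (d * n)) l) := by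
          rw [Nat.mul_succ, add_comm, pow_add, MulAut.mul_apply, map_mul, map_inv]; group
        rw [e]
        exact mul_mem hmem (inv_pow hM0inv d ih)
    obtain ⟨n, hn⟩ := Nat.exists_mul_mod_eq_one_of_coprime
      ((hp.out.coprime_iff_not_dvd).2 hd).symm hp.out.one_lt
    refine hl0 (hgood l hlL ?_)
    have := hmul n
    rw [← hxpow, hn.2, pow_one] at this
    exact this
  by_cases hB : ∀ m ∈ L, m ∉ M0 → ∀ v ∈ V, m * v * m⁻¹ = v → v = 1
  · -- no element of `L` outside `M0` has fixed points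
    obtain ⟨a, ha, b, hb, e⟩ := hkey l hlL hl0 (l⁻¹ * (l⁻¹ * c0 * l) * l)
      (Subgroup.Normal.conj_mem' inferInstance _
        (Subgroup.Normal.conj_mem' inferInstance _ hc0.1 l) l)
    let s : ℕ → (V →* V) := fun j => cj ((x ^ j) l)⁻¹
    have heq : ∀ j, s j (s j ⟨c0, hc0.1⟩) = s j ⟨a, ha.1⟩ * ⟨b, hb.1⟩ := fun j => by
      have h1 := congrArg (x ^ j) e
      simp only [map_mul, map_inv, pow_fix hc0.2, pow_fix ha.2, pow_fix hb.2] at h1
      refine Subtype.ext ?_
      simp only [s, Subgroup.coe_mul, hcj, inv_inv]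
      exact h1
    have hcm : ∀ i j (v : V), s i (s j v) = s j (s i v) := fun i j v => Subtype.ext (by
      simp only [s, hcj]
      exact hab _ (inv_mem (inv_pow hLinv i hlL)) _ (inv_mem (inv_pow hLinv j hlL)) v v.2)
    have hinj : ∀ d k, ¬ p ∣ d → ∀ v : V, s (k + d) v = s k v → v = 1 := by
      intro d k hd v hv
      refine Subtype.ext (hB ((x ^ k) (l⁻¹ * (x ^ d) l))⁻¹ ?_ ?_ v v.2 ?_)
      · exact inv_mem (inv_pow hLinv k (mul_mem (inv_mem hlL) (inv_pow hLinv d hlL)))
      · intro hm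
        have hm' := inv_mem hm
        rw [inv_inv] at hm'
        refine hne d hd ?_
        have := inv_pow hM0inv (p * (k + 1) - k) hm'
        rwa [← MulAut.mul_apply, ← pow_add, Nat.sub_add_cancel (by
          calc k ≤ k + 1 := Nat.le_succ k
            _ ≤ p * (k + 1) := Nat.le_mul_of_pos_left _ hp.out.pos),
          pow_mul, hxp, one_pow] at this
      · have h1 := congrArg (fun z : V => (z : H)) hv
        simp only [s, hcj, inv_inv] at h1
        rw [map_mul, map_inv, ← MulAut.mul_apply, ← pow_add]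
        calc _ = ((x ^ (k + d)) l)⁻¹ * ((x ^ k) l * v * ((x ^ k) l)⁻¹) * (x ^ (k + d)) l := by group
          _ = v := ?_
        have h2 := hab _ (inv_mem (inv_pow hLinv (k + d) hlL)) _ (inv_pow hLinv k hlL) v v.2
        rw [inv_inv] at h2
        rw [h2, h1]; group
    have hsum : ∀ d, ¬ p ∣ d → s 0 ⟨c0, hc0.1⟩ * s d ⟨c0, hc0.1⟩ = ⟨a, ha.1⟩ := by
      intro d hd
      refine mul_inv_eq_one.1 (hinj d 0 hd _ ?_)
      rw [zero_add]
      rw [map_mul, map_mul, map_mul, map_mul, map_inv, map_inv, heq 0, heq d, hcm d 0,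
        mul_right_comm (s 0 ⟨a, ha.1⟩ * _), mul_inv_cancel_comm, mul_assoc _ (s d _ * _),
        mul_inv_cancel_comm, mul_comm]
    have h01 := hsum 1 (fun h => hp.out.one_lt.ne' (Nat.dvd_one.1 h))
    have h02 := hsum 2 (fun h => hp2 ((Nat.prime_dvd_prime_iff_eq hp.out Nat.prime_two).1 h))
    rw [← h02] at h01
    have h12 := mul_left_cancel h01
    have := hinj 1 1 (fun h => hp.out.one_lt.ne' (Nat.dvd_one.1 h)) ⟨c0, hc0.1⟩ h12.symm
    exact hc01 (congrArg Subtype.val this)
  · -- some element outside `M0` has a nontrivial fixed point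
    simp only [not_forall] at hB
    obtain ⟨m, hmL, hm0, v0, hv0, hmv, hv01⟩ := hB
    let Z : Subgroup H → Subgroup H := fun S => V ⊓ centralizer (S : Set H)
    let SS : Set (Subgroup H) := {S | M0 ≤ S ∧ S ≤ L ∧ ¬ S ≤ M0 ∧ Z S ≠ ⊥}
    have hSS : (M0 ⊔ zpowers m) ∈ SS := by
      refine ⟨le_sup_left, sup_le hM0L (zpowers_le.2 hmL),
        fun h => hm0 (h (mem_sup_right (mem_zpowers m))), fun h => hv01 ?_⟩
      rw [← Subgroup.mem_bot, ← h]
      refine ⟨hv0, ?_⟩
      have hle : M0 ⊔ zpowers m ≤ centralizer {v0} := sup_le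
        (fun g hg => mem_centralizer_singleton_iff.2 (mul_inv_eq_iff_eq_mul.1 (hcent g hg v0 hv0)))
        (zpowers_le.2 (mem_centralizer_singleton_iff.2 (mul_inv_eq_iff_eq_mul.1 hmv)))
      exact mem_centralizer_iff.2 fun g hg => mem_centralizer_singleton_iff.1 (hle hg)
    obtain ⟨S, hS, hSmax⟩ :=
      Set.exists_max_image SS (fun S => Nat.card S) (Set.toFinite _) ⟨_, hSS⟩
    obtain ⟨hS0, hSL, hSne, hSZ⟩ := hS
    let Sj : ℕ → Subgroup H := fun j => S.map ((x ^ j : MulAut H) : H →* H)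
    have hSjcard : ∀ j, Nat.card (Sj j) = Nat.card S := fun j =>
      Nat.card_congr (S.equivMapOfInjective _ (x ^ j).injective).symm.toEquiv
    have hSjL : ∀ j, Sj j ≤ L := fun j => by
      rintro _ ⟨y, hy, rfl⟩; exact inv_pow hLinv j (hSL hy)
    have hM0Sj : ∀ j, M0 ≤ Sj j := fun j y hy => by
      refine ⟨(x ^ (p * (j + 1) - j)) y, hS0 (inv_pow hM0inv _ hy), ?_⟩
      show (x ^ j) ((x ^ (p * (j + 1) - j)) y) = y
      rw [← MulAut.mul_apply, ← pow_add, Nat.add_sub_cancel' (by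
        calc j ≤ j + 1 := Nat.le_succ j
          _ ≤ p * (j + 1) := Nat.le_mul_of_pos_left _ hp.out.pos), pow_mul, hxp, one_pow]
      rfl
    have hdist : ∀ i j : ZMod p, i ≠ j → ¬ Sj j.val ≤ Sj i.val := by
      intro i j hij hle
      have heq : Sj j.val = Sj i.val := Subgroup.eq_of_le_of_card_ge hle (by
        rw [hSjcard, hSjcard])
      have hstep : ∀ n, Sj (n + 1) = (Sj n).map (x : H →* H) := fun n => by
        simp only [Sj, Subgroup.map_map]
        congr 1
        ext y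
        simp [pow_succ', MulAut.mul_apply]
      have hshift : ∀ a c : ℕ, Sj (a + c) = (Sj c).map ((x ^ a : MulAut H) : H →* H) :=
        fun a c => by
          simp only [Sj, Subgroup.map_map]
          congr 1
          ext y
          simp [pow_add, MulAut.mul_apply]
      -- a proper shift fixes `S`
      obtain ⟨d, hd, hSd⟩ : ∃ d, ¬ p ∣ d ∧ Sj d = S := by
        refine ⟨(p - i.val) + j.val, ?_, ?_⟩
        · intro h
          apply hij
          have h' : ((((p - i.val) + j.val : ℕ)) : ZMod p) = 0 :=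
            (ZMod.natCast_eq_zero_iff _ _).2 h
          rw [Nat.cast_add, Nat.cast_sub (ZMod.val_lt i).le, ZMod.natCast_self,
            ZMod.natCast_zmod_val, ZMod.natCast_zmod_val, zero_sub, neg_add_eq_zero] at h'
          exact h'
        · rw [hshift, heq, ← hshift, Nat.sub_add_cancel (ZMod.val_lt i).le]
          simp only [Sj, hxp]
          exact Subgroup.map_id S
      have hSdn : ∀ n, Sj (d * n) = S := by
        intro n
        induction n with
        | zero => simp only [Sj, Nat.mul_zero, pow_zero]; exact Subgroup.map_id S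
        | succ n ih =>
          rw [Nat.mul_succ, add_comm, hshift, ih]
          exact hSd
      obtain ⟨n, hn⟩ := Nat.exists_mul_mod_eq_one_of_coprime
        ((hp.out.coprime_iff_not_dvd).2 hd).symm hp.out.one_lt
      have hS1 : Sj 1 = S := by
        rw [← hn.2]
        simp only [Sj, hxpow]
        exact hSdn n
      refine hSne (hmax S (fun y hy => ?_) hSL fun h => hSZ ?_)
      · rw [← hS1]; exact ⟨y, hy, by simp⟩
      · rw [h]
        refine eq_bot_iff.2 fun z hz => ?_
        rw [← hC0]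
        refine ⟨hz.1, mem_center_iff.2 fun g => ?_⟩
        have hg : g ∈ ((V : Set H) * L) := by rw [← normal_mul, hh]; trivial
        obtain ⟨u, hu, k, hk, rfl⟩ := Set.mem_mul.1 hg
        rw [mul_assoc, mem_centralizer_iff.1 hz.2 k hk, ← mul_assoc, hVab u hu z hz.1, mul_assoc]
    let Zj : ZMod p → Subgroup H := fun i => Z (Sj i.val)
    have hfull : ∀ i j : ZMod p, i ≠ j → ∀ t ∈ Sj j.val, t ∉ Sj i.val →
        ∀ z ∈ Zj i, t * z = z * t → z = 1 := by
      intro i j _ t ht hti z hz htz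
      by_contra hz1
      let S' := Sj i.val ⊔ zpowers t
      have hmem : S' ∈ SS := ⟨(hM0Sj _).trans le_sup_left,
        sup_le (hSjL _) (zpowers_le.2 (hSjL _ ht)),
        fun h => hti (hM0Sj _ (h (mem_sup_right (mem_zpowers t)))), fun h => hz1 (by
          rw [← Subgroup.mem_bot, ← h]
          refine ⟨hz.1, mem_centralizer_iff.2 fun g hg => ?_⟩
          have hle : S' ≤ centralizer {z} := sup_le
            (fun g hg => mem_centralizer_singleton_iff.2 (mem_centralizer_iff.1 hz.2 g hg))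
            (zpowers_le.2 (mem_centralizer_singleton_iff.2 htz))
          exact mem_centralizer_singleton_iff.1 (hle hg))⟩
      have hlt : Sj i.val < S' := lt_of_le_of_ne le_sup_left fun h =>
        hti (h ▸ mem_sup_right (mem_zpowers t))
      have hc1 := hSmax S' hmem
      have hc2 : Nat.card (Sj i.val) < Nat.card S' :=
        lt_of_le_of_ne (card_le_of_le hlt.le) fun h =>
          hlt.ne (Subgroup.eq_of_le_of_card_ge hlt.le h.ge)
      rw [hSjcard] at hc2
      omega
    have hZinv : ∀ i : ZMod p, ∀ z ∈ Zj i, ∀ g ∈ L, g * z * g⁻¹ ∈ Zj i := by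
      intro i z hz g hg
      refine ⟨Subgroup.Normal.conj_mem inferInstance z hz.1 g,
        mem_centralizer_iff.2 fun s hs => mul_inv_eq_iff_eq_mul.1 ?_⟩
      rw [hab s (hSjL _ hs) g hg z hz.1, mem_centralizer_iff.1 hz.2 s hs, mul_inv_cancel_right]
    -- independence
    have hind : ∀ F : Finset (ZMod p), ∀ f : ZMod p → V, (∀ i ∈ F, (f i : H) ∈ Zj i) →
        ∏ i ∈ F, f i = 1 → ∀ i ∈ F, f i = 1 := by
      intro F
      induction F using Finset.induction with
      | empty => simp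
      | insert k F hk ih =>
        intro f hf hprod
        rw [Finset.prod_insert hk] at hprod
        have hF : ∀ i ∈ F, f i = 1 := by
          intro i hi
          have hik : i ≠ k := fun h => hk (h ▸ hi)
          obtain ⟨t, htk, hti⟩ := SetLike.not_le_iff_exists.1 (hdist i k hik)
          let ψ : V →* V := MonoidHom.mk' (fun v => cj t v * v⁻¹) fun u v => by
            rw [map_mul, mul_inv_rev]; ac_rfl
          have hψk : ψ (f k) = 1 := mul_inv_eq_one.2 (Subtype.ext (by
            rw [hcj]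
            exact mul_inv_eq_iff_eq_mul.2
              (mem_centralizer_iff.1 (hf k (Finset.mem_insert_self k F)).2 t htk)))
          have hψ : ∏ j ∈ F, ψ (f j) = 1 := by
            have h0 := congrArg ψ hprod
            rw [map_mul, map_one, hψk, one_mul, map_prod] at h0
            exact h0
          have h1 := ih (fun j => ψ (f j)) (fun j hj => by
            show ((cj t (f j) * (f j)⁻¹ : V) : H) ∈ Zj j
            rw [Subgroup.coe_mul, hcj, Subgroup.coe_inv]
            exact mul_mem (hZinv j _ (hf j (Finset.mem_insert_of_mem hj)) t (hSjL _ htk))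
              (inv_mem (hf j (Finset.mem_insert_of_mem hj)))) hψ i hi
          have h2 : t * (f i : H) * t⁻¹ = f i := by
            have := congrArg (fun z : V => (z : H)) (mul_inv_eq_one.1 h1)
            simpa [hcj] using this
          exact Subtype.ext (hfull i k hik t htk hti _ (hf i (Finset.mem_insert_of_mem hi))
            (mul_inv_eq_iff_eq_mul.1 h2))
        rw [Finset.prod_eq_one hF, mul_one] at hprod
        intro i hi
        rcases Finset.mem_insert.1 hi with rfl | hi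
        · exact hprod
        · exact hF i hi
    let xV : V →* V := MonoidHom.mk' (fun v => ⟨x v, hVinv v v.2⟩) fun u v =>
      Subtype.ext (map_mul x _ _)
    have hxV : ∀ (n : ℕ) (v : V), (((xV^[n]) v : V) : H) = (x ^ n) v := by
      intro n
      induction n with
      | zero => intro v; rfl
      | succ n ih =>
        intro v
        rw [Function.iterate_succ_apply', pow_succ', MulAut.mul_apply, ← ih]; rfl
    let Z0 : Subgroup V := (Z S).subgroupOf V
    let xj : ZMod p → (V →* V) := fun i => MonoidHom.mk' (fun v => (xV^[i.val]) v)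
      fun u v => Subtype.ext (by simp [hxV])
    let Φ : (ZMod p → Z0) →* V := MonoidHom.mk' (fun f => ∏ i, xj i (f i)) fun f g => by
      simp only [Pi.mul_apply, Subgroup.coe_mul, map_mul, Finset.prod_mul_distrib]
    have hmemZ : ∀ i (z : Z0), ((xj i z : V) : H) ∈ Zj i := fun i z => by
      have hz : ((z : V) : H) ∈ Z S := z.2
      refine ⟨(xj i z).2, mem_centralizer_iff.2 ?_⟩
      rintro _ ⟨y, hy, rfl⟩
      show (x ^ i.val) y * _ = _ * (x ^ i.val) y
      rw [show ((xj i z : V) : H) = (x ^ i.val) (z : V) from hxV _ _, ← map_mul, ← map_mul,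
        mem_centralizer_iff.1 hz.2 y hy]
    have hxjinj : ∀ i, Function.Injective (xj i) := fun i u v huv => by
      have := congrArg (fun z : V => (z : H)) huv
      simp only [xj, MonoidHom.mk'_apply, hxV] at this
      exact Subtype.ext ((x ^ i.val).injective this)
    have hΦinj : Function.Injective Φ := by
      refine (injective_iff_map_eq_one Φ).2 fun f hf => funext fun i => ?_
      have := hind Finset.univ (fun i => xj i (f i)) (fun i _ => hmemZ i (f i)) hf i
        (Finset.mem_univ i)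
      exact Subtype.ext (hxjinj i (by simpa using this))
    have hsucc : ∀ i (v : V), xV (xj i v) = xj (i + 1) v := fun i v => Subtype.ext (by
      show x ((xV^[i.val]) v : V) = ((xV^[(i + 1).val]) v : V)
      rw [hxV, hxV, ← MulAut.mul_apply, ← pow_succ', ZMod.val_add, ZMod.val_one, hxpow])
    have hΦx : ∀ f, xV (Φ f) = Φ (fun i => f (i - 1)) := fun f => by
      show xV (∏ i, xj i (f i)) = ∏ i, xj i (f (i - 1))
      rw [map_prod, ← Equiv.prod_comp (Equiv.addRight (1 : ZMod p)) (fun i => xj i (f (i - 1)))]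
      simp [hsucc]
    have hZ0card : 1 < Nat.card Z0 := by
      rw [Nat.card_congr (subgroupOfEquivOfLe (inf_le_left : Z S ≤ V)).toEquiv]
      exact (one_lt_card_iff_ne_bot (Z S)).2 hSZ
    have hY : ∀ v ∈ V, ∃ f, ((Φ f : V) : H) = v := by
      let Y : Subgroup H := Φ.range.map V.subtype
      have hY : Y = V := by
        refine hmin Y ?_ ?_ (map_subtype_le _) ?_
        · have hYc : ∀ g ∈ L, ∀ y ∈ Y, g * y * g⁻¹ ∈ Y := by
            rintro g hg _ ⟨_, ⟨f, rfl⟩, rfl⟩
            have hmul : ∀ i, ∃ z : Z0, xj i z = cj g (xj i (f i)) := fun i => by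
              have hm := hZinv i _ (hmemZ i (f i)) g hg
              refine ⟨⟨(xV^[p - i.val]) (cj g (xj i (f i))), ?_⟩, ?_⟩
              · show (((xV^[p - i.val]) (cj g (xj i (f i))) : V) : H) ∈ Z S
                refine ⟨((xV^[p - i.val]) (cj g (xj i (f i)))).2, mem_centralizer_iff.2 fun y hy => ?_⟩
                have h1 := mem_centralizer_iff.1 hm.2 _ (⟨y, hy, rfl⟩ : _ ∈ Sj i.val)
                rw [← hcj] at h1
                have h2 := congrArg (x ^ (p - i.val)) h1
                simp only [MonoidHom.coe_coe, map_mul, ← MulAut.mul_apply, ← pow_add,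
                  Nat.sub_add_cancel (ZMod.val_lt i).le, hxp, MulAut.one_apply] at h2
                rw [hxV]
                exact h2
              · refine Subtype.ext ?_
                show (((xV^[i.val]) ((xV^[p - i.val]) (cj g (xj i (f i)))) : V) : H) = _
                rw [hxV, hxV, ← MulAut.mul_apply, ← pow_add,
                  Nat.add_sub_cancel' (ZMod.val_lt i).le, hxp]
                rfl
            choose z hz using hmul
            refine ⟨Φ z, ⟨z, rfl⟩, ?_⟩
            show ((Φ z : V) : H) = g * ((Φ f : V) : H) * g⁻¹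
            rw [← hcj]
            exact congrArg Subtype.val (by simp [Φ, hz, map_prod])
          refine normalizer_eq_top_iff.1 (top_le_iff.1 (hh ▸ sup_le (fun v hv => ?_) fun g hg => ?_))
          · refine mem_normalizer_iff.2 fun z => ⟨fun hz => ?_, fun hz => ?_⟩
            · rw [hVab v hv z (map_subtype_le _ hz), mul_inv_cancel_right]; exact hz
            · have e : z = v⁻¹ * (v * z * v⁻¹) * v := by group
              rw [e, hVab _ (inv_mem hv) _ (map_subtype_le _ hz), inv_mul_cancel_right]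
              exact hz
          · refine mem_normalizer_iff.2 fun z => ⟨hYc g hg z, fun hz => ?_⟩
            have := hYc g⁻¹ (inv_mem hg) _ hz
            simpa [mul_assoc] using this
        · rintro _ ⟨_, ⟨f, rfl⟩, rfl⟩
          exact ⟨Φ (fun i => f (i - 1)), ⟨_, rfl⟩,
            (congrArg Subtype.val (hΦx f)).symm⟩
        · intro h
          haveI : Nontrivial Z0 := Finite.one_lt_card_iff_nontrivial.1 hZ0card
          obtain ⟨z, hz⟩ := exists_ne (1 : Z0)
          have h1 : ((Φ (Pi.mulSingle 0 z) : V) : H) ∈ Y := ⟨_, ⟨_, rfl⟩, rfl⟩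
          rw [h, Subgroup.mem_bot] at h1
          have := hΦinj ((Subtype.ext h1 : Φ (Pi.mulSingle 0 z) = 1).trans Φ.map_one.symm)
          exact hz (by simpa using congrFun this 0)
      intro v hv
      rw [← hY] at hv
      obtain ⟨_, ⟨f, rfl⟩, e⟩ := hv
      exact ⟨f, e⟩
    have hconst : ∀ c : ↥(V ⊓ Fix x), ∃ z : Z0, Φ (fun _ => z) = ⟨c, c.2.1⟩ := fun c => by
      obtain ⟨f, hf⟩ := hY c c.2.1
      have hfix : xV (Φ f) = Φ f := Subtype.ext (by
        show x ((Φ f : V) : H) = _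
        rw [hf]; exact c.2.2)
      rw [hΦx] at hfix
      have h1 := hΦinj hfix
      have hcst : ∀ n : ℕ, f (n : ZMod p) = f 0 := by
        intro n
        induction n with
        | zero => simp
        | succ n ih =>
          have h2 := congrFun h1 ((n + 1 : ℕ) : ZMod p)
          simp only [Nat.cast_succ, add_sub_cancel_right] at h2
          rw [Nat.cast_succ, ← h2, ih]
      refine ⟨f 0, Subtype.ext ?_⟩
      rw [show (fun _ : ZMod p => f 0) = f from funext fun i => by
        rw [← hcst i.val, ZMod.natCast_zmod_val]]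
      exact hf
    choose ζ hζ using hconst
    have hcardC : Nat.card ↥(V ⊓ Fix x) ≤ Nat.card Z0 :=
      Nat.card_le_card_of_injective ζ fun a b hab' => by
        have := (hζ a).symm.trans ((congrArg (fun z => Φ (fun _ => z)) hab').trans (hζ b))
        exact Subtype.ext (congrArg (fun z : V => (z : H)) this)
    have hcardV : Nat.card V ≤ Nat.card ↥(V ⊓ Fix x) * Nat.card ↥(V ⊓ Fix x) := by
      rw [← Nat.card_prod]
      have hsurj : ∀ v : V, ∃ ab : ↥(V ⊓ Fix x) × ↥(V ⊓ Fix x),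
          (v : H) = l⁻¹ * ab.1 * l * ab.2 := fun v => by
        obtain ⟨a, ha, b, hb, e⟩ := hkey l hlL hl0 v v.2
        exact ⟨(⟨a, ha⟩, ⟨b, hb⟩), e⟩
      choose g hg using hsurj
      exact Nat.card_le_card_of_injective g fun u v huv => Subtype.ext (by rw [hg u, hg v, huv])
    have hbig : Nat.card Z0 ^ p ≤ Nat.card V := by
      have := Nat.card_le_card_of_injective Φ hΦinj
      rwa [Nat.card_fun, Nat.card_zmod] at this
    have hp3 : 3 ≤ p := by have := hp.out.two_le; omega
    have : Nat.card Z0 ^ 3 ≤ Nat.card Z0 * Nat.card Z0 :=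
      ((Nat.pow_le_pow_right (by omega) hp3).trans hbig).trans
        (hcardV.trans (Nat.mul_le_mul hcardC hcardC))
    nlinarith [this, hZ0card, Nat.mul_pos (show 0 < Nat.card Z0 by omega) (show 0 < Nat.card Z0 by omega)]

end Cfsg.Agent.Lib.FixedGeneration
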