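import Mathlib
import Cfsg.Agent.Lib.FixedGeneration.Nilpotent
import Cfsg.Agent.Lib.FixedGeneration.Central
import Cfsg.Agent.Lib.FixedGeneration.Noncentral

/-!
Fixed points of a coprime automorphism of odd prime order on `[H, x]` of a solvable group are
generated by the fixed points on the subgroups `[h, x]`.
-/

set_option autoImplicit false
set_option linter.unusedSectionVars false

open Subgroup

namespace Cfsg.Agent.Lib.FixedGeneration

universe u

variable {H : Type u} [Group H] {x : MulAut H}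

theorem D1_map {H' : Type*} [Group H'] {x' : MulAut H'} (f : H →* H')
    (hf : ∀ y, f (x y) = x' (f y)) (h : H) : (D1 x h).map f = D1 x' (f h) := by
  have hpow : ∀ (i : ℕ) (y : H), f ((x ^ i) y) = (x' ^ i) (f y) := fun i => by
    induction i with
    | zero => intro y; rfl
    | succ i ih => intro y; rw [pow_succ, pow_succ, MulAut.mul_apply, MulAut.mul_apply, ih, hf]
  rw [D1, D1, MonoidHom.map_closure]
  congr 1
  ext z
  simp only [Set.mem_image, Set.mem_ofPred_eq]
  constructor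
  · rintro ⟨_, ⟨i, rfl⟩, rfl⟩
    exact ⟨i, by rw [map_mul, map_inv, hpow]⟩
  · rintro ⟨i, rfl⟩
    exact ⟨_, ⟨i, rfl⟩, by rw [map_mul, map_inv, hpow]⟩

theorem exists_restrict {p : ℕ} [Fact p.Prime] (hxp : x ^ p = 1) {S : Subgroup H} (hS : Inv x S) :
    ∃ xS : MulAut S, (∀ s : S, ((xS s : S) : H) = x s) ∧ xS ^ p = 1 := by
  have hinv : ∀ y, x ((x ^ (p - 1)) y) = y ∧ (x ^ (p - 1)) (x y) = y := fun y => by
    constructor
    · rw [← MulAut.mul_apply, ← pow_succ', Nat.sub_add_cancel (Fact.out : p.Prime).one_le, hxp]; rfl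
    · rw [← MulAut.mul_apply, ← pow_succ, Nat.sub_add_cancel (Fact.out : p.Prime).one_le, hxp]; rfl
  let xS : MulAut S :=
    { toFun := fun s => ⟨x s, hS s s.2⟩
      invFun := fun s => ⟨(x ^ (p - 1)) s, inv_pow hS _ s.2⟩
      left_inv := fun s => Subtype.ext (hinv s).2
      right_inv := fun s => Subtype.ext (hinv s).1
      map_mul' := fun a b => Subtype.ext (map_mul x _ _) }
  refine ⟨xS, fun s => rfl, MulEquiv.ext fun s => Subtype.ext ?_⟩
  have key : ∀ (i : ℕ) (s : S), (((xS ^ i) s : S) : H) = (x ^ i) s := fun i => by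
    induction i with
    | zero => intro s; rfl
    | succ i ih => intro s; rw [pow_succ, pow_succ, MulAut.mul_apply, MulAut.mul_apply, ih]; rfl
  rw [key, hxp]; rfl

theorem conc_of_subgroup {S : Subgroup H} {xS : MulAut S} (hxS : ∀ s : S, ((xS s : S) : H) = x s)
    (h : Conc xS) : D x S ⊓ Fix x ≤ K x := by
  have h1 : (D xS ⊤).map S.subtype = D x S := by
    rw [D, Subgroup.map_iSup]
    refine le_antisymm (iSup_le fun y => ?_) (iSup_le fun y => ?_)
    · rw [D1_map S.subtype hxS]; exact D1_le_D (y : S).2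
    · exact le_iSup_of_le ⟨y, mem_top y⟩ (D1_map S.subtype hxS y).ge
  have h2 : (K xS).map S.subtype ≤ K x := by
    rw [K, Subgroup.map_iSup]
    refine iSup_le fun y => le_trans ?_ (D1_inf_le_K (y : H))
    rintro _ ⟨z, ⟨hz1, hz2⟩, rfl⟩
    refine ⟨(D1_map S.subtype hxS y).le ⟨z, hz1, rfl⟩, ?_⟩
    exact (hxS z).symm.trans (congrArg Subtype.val hz2)
  rintro z ⟨hz, hzf⟩
  rw [← h1] at hz
  obtain ⟨z', hz', rfl⟩ := hz
  exact h2 ⟨z', h ⟨hz', Subtype.ext ((hxS z').trans hzf)⟩, rfl⟩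

theorem fix_le_sup_of_quotient [Finite H] {p : ℕ} [Fact p.Prime] (hxp : x ^ p = 1)
    (hcop : (Nat.card H).Coprime p) {V : Subgroup H} [V.Normal] (hV : Inv x V)
    (hD : D x (⊤ : Subgroup H) = ⊤)
    (hquot : ∀ y : MulAut (H ⧸ V), y ^ p = 1 → Conc y) : Fix x ≤ K x ⊔ V := by
  have hmap : V.map (x : H →* H) = V := by
    refine le_antisymm (inv_iff.1 hV) fun v hv => ⟨(x ^ (p - 1)) v, inv_pow hV _ hv, ?_⟩
    show x ((x ^ (p - 1)) v) = v
    rw [← MulAut.mul_apply, ← pow_succ', Nat.sub_add_cancel (Fact.out : p.Prime).one_le, hxp]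
    rfl
  let y : MulAut (H ⧸ V) := QuotientGroup.congr V V x hmap
  let q := QuotientGroup.mk' V
  have hq : ∀ h, q (x h) = y (q h) := fun h => rfl
  have hyp : y ^ p = 1 := by
    refine MulEquiv.ext fun z => ?_
    obtain ⟨h, rfl⟩ := QuotientGroup.mk'_surjective V z
    have key : ∀ i : ℕ, q ((x ^ i) h) = (y ^ i) (q h) := fun i => by
      induction i with
      | zero => rfl
      | succ i ih => rw [pow_succ', pow_succ', MulAut.mul_apply, MulAut.mul_apply, ← ih, hq]
    rw [← key, hxp]; rfl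
  intro c hc
  have hDy : q c ∈ D y ⊤ := by
    have : (D x ⊤).map q ≤ D y ⊤ := by
      rw [D, Subgroup.map_iSup]
      exact iSup_le fun h => by rw [D1_map q hq]; exact D1_le_D (mem_top _)
    exact this ⟨c, hD.symm ▸ mem_top c, rfl⟩
  have hK : K y ≤ (K x).map q := by
    refine iSup_le fun z => ?_
    obtain ⟨h, rfl⟩ := QuotientGroup.mk'_surjective V z
    rintro w ⟨hw1, hw2⟩
    rw [show (QuotientGroup.mk' V) h = q h from rfl, ← D1_map q hq] at hw1
    obtain ⟨d, hd, rfl⟩ := hw1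
    have hdd : d⁻¹ * x d ∈ V ⊓ D1 x h := by
      refine Subgroup.mem_inf.2 ⟨QuotientGroup.eq.1 ?_, mul_mem (inv_mem hd) (inv_D1 h d hd)⟩
      exact ((hq d).trans (mem_fix.1 hw2)).symm
    obtain ⟨n, ⟨hnV, hnD⟩, hfix⟩ := lift hxp hcop (inv_inf hV (inv_D1 h)) hdd
    refine ⟨d * n, D1_inf_le_K h ⟨mul_mem hd hnD, hfix⟩, ?_⟩
    rw [map_mul, show q n = 1 from (QuotientGroup.eq_one_iff n).2 hnV, mul_one]
  obtain ⟨k, hk, e⟩ := hK (hquot y hyp ⟨hDy, mem_fix.2 (by rw [← hq, mem_fix.1 hc])⟩)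
  have hkc : k⁻¹ * c ∈ V := QuotientGroup.eq.1 e
  rw [← mul_inv_cancel_left k c]
  exact mul_mem (mem_sup_left hk) (mem_sup_right hkc)

theorem conc_all (n : ℕ) : ∀ (H : Type u) [Group H] [Finite H] [Group.IsSolvable H] (p : ℕ)
    [Fact p.Prime] (x : MulAut H), p ≠ 2 → x ^ p = 1 → (Nat.card H).Coprime p →
    Nat.card H = n → Conc x := by
  induction n using Nat.strong_induction_on with
  | _ n ih =>
    intro H _ _ _ p _ x hp2 hxp hcop hn
    classical
    rcases subsingleton_or_nontrivial H with hsing | hnt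
    · intro c _
      rw [Subsingleton.elim c 1]
      exact one_mem _
    have hsub : ∀ S : Subgroup H, Inv x S → S ≠ ⊤ → D x S ⊓ Fix x ≤ K x := fun S hS hne => by
      obtain ⟨xS, hxS, hxSp⟩ := exists_restrict hxp hS
      refine conc_of_subgroup hxS (ih (Nat.card S) ?_ S p xS hp2 hxSp
        (hcop.coprime_dvd_left (card_subgroup_dvd_card S)) rfl)
      rw [← hn]
      exact lt_of_le_of_ne (card_le_card_group S) fun h => hne (card_eq_iff_eq_top S |>.1 h)
    by_cases hD : D x (⊤ : Subgroup H) = ⊤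
    swap
    · have := hsub _ (inv_D _) hD
      rwa [D_D hxp hcop] at this
    have hfin : ∀ V : Subgroup H, V.Normal → Inv x V → V ≠ ⊥ → Fix x ≤ K x ⊔ V := by
      intro V hVn hV hV1
      refine fix_le_sup_of_quotient hxp hcop hV hD fun y hy => ih (Nat.card (H ⧸ V)) ?_ _ p y hp2 hy
        (hcop.coprime_dvd_left V.card_quotient_dvd_card) rfl
      rw [← hn, card_eq_card_quotient_mul_card_subgroup V]
      exact lt_mul_of_one_lt_right Nat.card_pos ((one_lt_card_iff_ne_bot V).2 hV1)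
    have hfinish : ∀ V : Subgroup H, V.Normal → Inv x V → V ≠ ⊥ → V ⊓ Fix x ≤ K x → Conc x := by
      intro V hVn hV hV1 hVK c hc
      have h1 := hfin V hVn hV hV1 hc.2
      rw [← SetLike.mem_coe, mul_normal, Set.mem_mul] at h1
      obtain ⟨k, hk, v, hv, rfl⟩ := h1
      exact mul_mem hk (hVK ⟨hv, (mul_mem_cancel_left (K_le_fix hk)).1 hc.2⟩)
    by_cases hnil : Group.IsNilpotent H
    · obtain ⟨V, hV1, hVn, hV, hVK⟩ := exists_of_nilpotent hxp hcop hnil hp2 hD hsub
      exact hfinish V hVn hV hV1 hVK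
    obtain ⟨N, hNc, hN1, hNab⟩ : ∃ N : Subgroup H, N.Characteristic ∧ N ≠ ⊥ ∧
        ∀ a ∈ N, ∀ b ∈ N, a * b = b * a := by
      obtain ⟨k, hk⟩ := (inferInstance : Group.IsSolvable H).solvable
      have hex : ∃ k, derivedSeries H k = ⊥ := ⟨k, hk⟩
      obtain ⟨m, hm⟩ : ∃ m, Nat.find hex = m + 1 := Nat.exists_eq_succ_of_ne_zero fun h => by
        have := Nat.find_spec hex
        rw [h, derivedSeries_zero] at this
        exact top_ne_bot this
      refine ⟨derivedSeries H m, derivedSeries_characteristic H m,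
        Nat.find_min hex (by omega), fun a ha b hb => ?_⟩
      have h0 := Nat.find_spec hex
      rw [hm, derivedSeries_succ, commutator_eq_bot_iff_le_centralizer] at h0
      exact mem_centralizer_iff.1 (h0 hb) a ha
    let SS : Set (Subgroup H) := {W | W.Normal ∧ Inv x W ∧ W ≤ N ∧ W ≠ ⊥}
    obtain ⟨V, hVS, hVmin⟩ := Set.exists_min_image SS (fun W => Nat.card W) (Set.toFinite _)
      ⟨N, inferInstance, inv_characteristic N, le_rfl, hN1⟩
    obtain ⟨hVn, hV, hVN, hV1⟩ := hVS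
    haveI := hVn
    have hVab : ∀ a ∈ V, ∀ b ∈ V, a * b = b * a := fun a ha b hb => hNab a (hVN ha) b (hVN hb)
    have hmin : ∀ W : Subgroup H, W.Normal → Inv x W → W ≤ V → W ≠ ⊥ → W = V :=
      fun W h1 h2 h3 h4 => Subgroup.eq_of_le_of_card_ge h3 (hVmin W ⟨h1, h2, h3.trans hVN, h4⟩)
    obtain ⟨ℓ, hℓ, hℓV⟩ : ∃ ℓ, ℓ.Prime ∧ ℓ ∣ Nat.card V :=
      Nat.exists_prime_and_dvd ((one_lt_card_iff_ne_bot V).2 hV1).ne'
    haveI : Fact ℓ.Prime := ⟨hℓ⟩
    have hVl : IsPGroup ℓ V := by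
      let W : Subgroup H :=
        { carrier := {v | v ∈ V ∧ v ^ ℓ = 1}
          one_mem' := ⟨one_mem V, one_pow ℓ⟩
          mul_mem' := fun {a b} ha hb => ⟨mul_mem ha.1 hb.1, by
            rw [(show Commute a b from hVab a ha.1 b hb.1).mul_pow, ha.2, hb.2, one_mul]⟩
          inv_mem' := fun {a} ha => ⟨inv_mem ha.1, by rw [_root_.inv_pow, ha.2, inv_one]⟩ }
      have hWV : W = V := by
        refine hmin W ⟨fun v hv g => ⟨hVn.conj_mem v hv.1 g, ?_⟩⟩
          (fun v hv => ⟨hV v hv.1, by rw [← map_pow, hv.2, map_one]⟩) (fun v hv => hv.1) fun h => ?_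
        · rw [conj_pow, hv.2, mul_one, mul_inv_cancel]
        · obtain ⟨v, hv⟩ := exists_prime_orderOf_dvd_card' (G := V) ℓ hℓV
          have : (v : H) ∈ W := ⟨v.2, by
            have h := pow_orderOf_eq_one v
            rw [hv] at h
            exact congrArg Subtype.val h⟩
          rw [h, Subgroup.mem_bot, OneMemClass.coe_eq_one] at this
          rw [this, orderOf_one] at hv
          exact hℓ.one_lt.ne hv
      intro v
      refine ⟨1, Subtype.ext ?_⟩
      have : (v : H) ∈ W := hWV.symm ▸ v.2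
      rw [pow_one]
      exact this.2
    refine hfinish V hVn hV hV1 ?_
    by_cases hVc : V ≤ center H
    · exact inf_fix_le_of_central hxp hcop hD hsub hnil hVc hVl (hfin V hVn hV hV1)
    · exact inf_fix_le_of_noncentral hxp hcop hV hVab hp2 hVl hmin hVc hnil hD hsub
        (hfin V hVn hV hV1)

end Cfsg.Agent.Lib.FixedGeneration
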